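import Cfsg.Agent.Lib.Perm.Dihedral.RatCase

/-!
# The basic sets of a Schur ring, and the covering property
-/

set_option autoImplicit false

namespace CfsgLib.DihedralSR

open AddMonoidAlgebra Finset DihedralGroup

variable {m : ℕ} [NeZero m]

namespace Pr

theorem fn_sub (X Y : Pr m) (d : DihedralGroup m) : (X - Y).fn d = X.fn d - Y.fn d := by
  cases d <;> simp [fn, sub_a, sub_b]

theorem fn_zero (d : DihedralGroup m) : (0 : Pr m).fn d = 0 := by
  cases d <;> simp [fn, zero_a, zero_b]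

theorem fn_full (d : DihedralGroup m) : (full : Pr m).fn d = 1 := by rw [full, fn_map]

theorem fn_sum {ι : Type*} (s : Finset ι) (f : ι → Pr m) (d : DihedralGroup m) :
    (∑ i ∈ s, f i).fn d = ∑ i ∈ s, (f i).fn d := by
  classical
  induction s using Finset.induction_on with
  | empty => simp [fn_zero]
  | insert a s ha ih => rw [Finset.sum_insert ha, Finset.sum_insert ha, fn_add, ih]

end Pr

/-- The binary elements which are not constant off the identity. -/
structure NT (S : SR m) (X : Pr m) : Prop where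
  inv : S.Inv X
  binA : Bin X.a
  binB : Bin X.b
  nflat : ¬ Flat X

namespace SR

variable (S : SR m)

theorem flat_of_const (hm2 : 2 ≤ m) {X : Pr m} (hX : S.Inv X) {c : ℤ} (h : ∀ i, i ≠ 0 → X.a.coeff i = c) :
    Flat X := by
  set Y := DihedralSR.setOne (X.map fun v => v - c) 0 with hY
  have hYa : Y.a = 0 := cy_ext fun i => by
    rw [hY, setOne_a, coeff_zero, Finsupp.coe_zero, Pi.zero_apply]
    split_ifs with hi
    · rfl
    · rw [Pr.map_a, h i hi, sub_self]
  have hb := S.det hm2 (S.setOne (S.comp _ hX) 0) hYa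
  refine ⟨c, h, fun j => ?_⟩
  have := congrArg (fun w : Cy ℤ m => w.coeff j) hb
  simp only [setOne_b, Pr.map_b, coeff_zero, Finsupp.coe_zero, Pi.zero_apply] at this
  linarith

theorem compl {X : Pr m} (h : NT S X) : NT S (Pr.full - X) where
  inv := S.sub' S.full h.inv
  binA i := by
    rw [Pr.sub_a, coeff_sub, Finsupp.sub_apply, Pr.full_a, coeff_allOnes]
    rcases h.binA i with e | e <;> rw [e] <;> norm_num
  binB i := by
    rw [Pr.sub_b, coeff_sub, Finsupp.sub_apply, Pr.full_b, coeff_allOnes]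
    rcases h.binB i with e | e <;> rw [e] <;> norm_num
  nflat := fun ⟨c, h1, h2⟩ => h.nflat ⟨1 - c, fun i hi => by
      have := h1 i hi
      rw [Pr.sub_a, coeff_sub, Finsupp.sub_apply, Pr.full_a, coeff_allOnes] at this
      omega, fun j => by
      have := h2 j
      rw [Pr.sub_b, coeff_sub, Finsupp.sub_apply, Pr.full_b, coeff_allOnes] at this
      omega⟩

/-- The multiplier images of a nontrivial element cover everything. -/
theorem cover (hm2 : 2 ≤ m) {X : Pr m} (hX : NT S X) {i : ZMod m} (hi : i ≠ 0) :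
    ∃ k : (ZMod m)ˣ, X.a.coeff ((k : ZMod m) * i) = 1 := by
  classical
  choose Y hYi hYa hYb hY using fun k : (ZMod m)ˣ => S.mult hX.inv hX.binA k
  set U := (∑ k, Y k).map (fun v => if v = 0 then 0 else 1) with hU
  have hUi : S.Inv U := S.comp _ (S.sum _ _ fun k _ => hYi k)
  have hUa : ∀ j, U.a.coeff j = if ∃ k : (ZMod m)ˣ, X.a.coeff ((k : ZMod m) * j) = 1 then 1 else 0 := by
    intro j
    have e : (∑ k, Y k).a.coeff j = ∑ k : (ZMod m)ˣ, X.a.coeff ((k : ZMod m) * j) := by
      rw [show (∑ k, Y k).a.coeff j = (∑ k, Y k).fn (r j) from rfl, Pr.fn_sum]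
      refine Fintype.sum_equiv (Equiv.inv _) _ _ fun k => ?_
      show (Y k).a.coeff j = X.a.coeff (((k⁻¹ : (ZMod m)ˣ) : ZMod m) * j)
      rw [← hY k, Units.mul_inv_cancel_left]
    rw [hU, Pr.map_a, e]
    have hnn : ∀ k ∈ (univ : Finset (ZMod m)ˣ), 0 ≤ X.a.coeff ((k : ZMod m) * j) := fun k _ => by
      rcases hX.binA ((k : ZMod m) * j) with e | e <;> rw [e] <;> norm_num
    by_cases hex : ∃ k : (ZMod m)ˣ, X.a.coeff ((k : ZMod m) * j) = 1
    · obtain ⟨k, hk⟩ := hex
      rw [if_neg, if_pos ⟨k, hk⟩]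
      exact (lt_of_lt_of_le (by rw [hk]; norm_num) (Finset.single_le_sum hnn (mem_univ k))).ne'
    · rw [if_neg hex, if_pos]
      push Not at hex
      exact Finset.sum_eq_zero fun k _ => (hX.binA _).resolve_right (hex k)
  have hflat : Flat U := by
    by_contra hnf
    refine S.no_cand hm2 U ⟨hUi, fun j => ?_, fun j => ?_, fun k j => ?_, hnf⟩
    · rw [hU, Pr.map_a]; split_ifs <;> simp
    · rw [hU, Pr.map_b]; split_ifs <;> simp
    · rw [hUa, hUa]
      exact if_congr ⟨fun ⟨l, hl⟩ => ⟨l * k, by rw [Units.val_mul, mul_assoc]; exact hl⟩,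
        fun ⟨l, hl⟩ => ⟨l * k⁻¹, by rw [Units.val_mul, mul_assoc, Units.inv_mul_cancel_left]; exact hl⟩⟩ rfl rfl
  obtain ⟨c, hc, -⟩ := hflat
  obtain ⟨i₁, hi₁, hi₁'⟩ : ∃ j, j ≠ 0 ∧ X.a.coeff j = 1 := by
    by_contra h
    push Not at h
    exact hX.nflat (S.flat_of_const hm2 hX.inv (c := 0) fun j hj => (hX.binA j).resolve_right (h j hj))
  have h1 := hc i₁ hi₁
  rw [hUa, if_pos ⟨1, by simpa using hi₁'⟩] at h1
  have h2 := hc i hi
  rw [hUa, ← h1] at h2
  by_contra hno
  rw [if_neg hno] at h2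
  exact zero_ne_one h2

theorem not_nt_of_even (hm2 : 2 ≤ m) {q : ℕ} (hm : m = 2 * q) (X : Pr m) : ¬ NT S X := by
  intro hX
  have hq : (q : ZMod m) ≠ 0 := natCast_ne_zero_of hm Nat.prime_two
  have key : ∀ Y, NT S Y → Y.a.coeff (q : ZMod m) = 1 := fun Y hY => by
    obtain ⟨k, hk⟩ := S.cover hm2 hY hq
    have hodd : Odd (k : ZMod m).val := by
      have h2 := Nat.Coprime.coprime_dvd_right (⟨q, hm⟩ : 2 ∣ m) (ZMod.val_coe_unit_coprime k)
      rw [← Nat.not_even_iff_odd, even_iff_two_dvd]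
      exact fun h => absurd (h2.symm.eq_one_of_dvd h) (by norm_num)
    obtain ⟨w, hw⟩ := hodd
    rwa [← ZMod.natCast_zmod_val (k : ZMod m), ← Nat.cast_mul, hw, show (2 * w + 1) * q = w * m + q by
      rw [hm]; ring, Nat.cast_add, Nat.cast_mul, ZMod.natCast_self, mul_zero, zero_add] at hk
  have h1 := key X hX
  have h2 := key _ (S.compl hX)
  rw [Pr.sub_a, coeff_sub, Finsupp.sub_apply, Pr.full_a, coeff_allOnes, h1, sub_self] at h2
  exact zero_ne_one h2

theorem nt_periodic (hm2 : 2 ≤ m) {p q : ℕ} [Fact p.Prime] (hm : m = p * q) (hp2 : p ≠ 2) {X : Pr m}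
    (hX : NT S X) (i : ZMod m) (hpi : (p : ZMod m) * i ≠ 0) : X.a.coeff (i + (q : ZMod m)) = X.a.coeff i := by
  classical
  have hp : p.Prime := Fact.out
  haveI := charP_cy (m := m) p
  obtain ⟨k, hk⟩ := hp.odd_of_ne_two hp2
  obtain ⟨ha, -⟩ := S.red_pow hX.inv p p
  rw [((PQ_charP p _ _).1 k hk)] at ha
  simp only at ha
  set W := (X ^ p).map (fun v => if (v : ZMod p) = 0 then 0 else 1) with hW
  have hWi : S.Inv W := S.comp _ (S.pow hX.inv p)
  have hWa : ∀ n, W.a.coeff n = if ((red p X.a) ^ p).coeff n = 0 then 0 else 1 := fun n => by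
    rw [hW, Pr.map_a, ← ha, coeff_red]
  have hone : ∀ u : (ZMod m)ˣ, W.a.coeff (u : ZMod m) = 0 := fun u => by
    rw [hWa, coeff_pow_prime', if_pos]
    rw [Finset.filter_eq_empty_iff.2 fun y _ (h : (p : ZMod m) * y = (u : ZMod m)) => ?_]
    · simp
    · have := (isUnit_of_mul_isUnit_left (h ▸ u.isUnit))
      rw [ZMod.isUnit_prime_iff_not_dvd hp] at this
      exact this ⟨q, hm⟩
  haveI : Fact (1 < m) := ⟨hm2⟩
  have hflat : Flat W := by
    by_contra hnf
    obtain ⟨u, hu⟩ := S.cover hm2 (X := W)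
      ⟨hWi, fun n => by rw [hW, Pr.map_a]; split_ifs <;> simp,
        fun n => by rw [hW, Pr.map_b]; split_ifs <;> simp, hnf⟩ (one_ne_zero : (1 : ZMod m) ≠ 0)
    rw [mul_one, hone u] at hu
    exact zero_ne_one hu
  obtain ⟨c, hc, -⟩ := hflat
  have hc0 : c = 0 := by rw [← hc 1 one_ne_zero]; simpa using hone 1
  refine fibre_step hm hX.binA (fun n hn => ?_) i hpi
  have := hc n hn
  rw [hWa, hc0] at this
  by_contra hne
  rw [if_neg hne] at this
  exact one_ne_zero this

open Classical in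
/-- The class of a group element under the relation of not being separated by the ring. -/
noncomputable def cls (x : DihedralGroup m) : Finset (DihedralGroup m) :=
  univ.filter fun y => ∀ X, S.Inv X → X.fn y = X.fn x

theorem mem_cls {x y : DihedralGroup m} : y ∈ S.cls x ↔ ∀ X, S.Inv X → X.fn y = X.fn x := by
  classical
  simp [cls]

theorem cls_eq_of_mem {x y : DihedralGroup m} (h : y ∈ S.cls x) : S.cls y = S.cls x := by
  classical
  rw [mem_cls] at h
  ext z
  simp only [mem_cls]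
  exact forall₂_congr fun X hX => by rw [h X hX]

theorem exists_indicator (x : DihedralGroup m) :
    ∃ Y, S.Inv Y ∧ ∀ y, Y.fn y = if y ∈ S.cls x then 1 else 0 := by
  classical
  suffices h : ∀ s : Finset (DihedralGroup m), (∀ y ∈ s, y ∉ S.cls x) →
      ∃ Y, S.Inv Y ∧ (∀ y, Y.fn y = 0 ∨ Y.fn y = 1) ∧ Y.fn x = 1 ∧ ∀ y ∈ s, Y.fn y = 0 by
    obtain ⟨Y, hY, hb, hx, hs⟩ := h (univ.filter fun y => y ∉ S.cls x) (by simp)
    refine ⟨Y, hY, fun y => ?_⟩
    split_ifs with hy
    · rw [(S.mem_cls.1 hy) Y hY, hx]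
    · exact hs y (by simpa using hy)
  intro s
  induction s using Finset.induction_on with
  | empty => exact fun _ => ⟨Pr.full, S.full, fun y => Or.inr (Pr.fn_full y), Pr.fn_full x, by simp⟩
  | insert a s _ ih =>
    intro hs
    obtain ⟨Y, hY, hb, hx, hs'⟩ := ih fun y hy => hs y (mem_insert_of_mem hy)
    have ha := hs a (mem_insert_self a s)
    rw [mem_cls] at ha
    push Not at ha
    obtain ⟨Z, hZ, hne⟩ := ha
    refine ⟨(Y + Z.map fun v => if v = Z.fn x then 1 else 0).map fun v => if v = 2 then 1 else 0,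
      S.comp _ (S.add hY (S.comp _ hZ)), fun y => ?_, ?_, fun y hy => ?_⟩
    · rw [Pr.fn_map]; split_ifs <;> simp
    · rw [Pr.fn_map, Pr.fn_add, Pr.fn_map, hx, if_pos rfl, if_pos (by norm_num)]
    · rw [Pr.fn_map, Pr.fn_add, Pr.fn_map]
      rcases mem_insert.1 hy with rfl | hy
      · rw [if_neg hne]
        rcases hb y with e | e <;> rw [e] <;> norm_num
      · rw [hs' y hy]
        split_ifs <;> omega

end SR

end CfsgLib.DihedralSR
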