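import Mathlib

/-!
# The group algebra of a finite cyclic group, in coordinates
-/

set_option autoImplicit false

namespace CfsgLib.DihedralSR

open AddMonoidAlgebra Finset

/-- The group algebra of `ZMod m`. -/
abbrev Cy (R : Type*) [Semiring R] (m : ℕ) := AddMonoidAlgebra R (ZMod m)

variable {R : Type*} [CommRing R] {m : ℕ}

theorem cy_ext {x y : Cy R m} (h : ∀ i, x.coeff i = y.coeff i) : x = y :=
  coeff_inj.1 (Finsupp.ext h)

theorem coeff_add' (x y : Cy R m) (i : ZMod m) : (x + y).coeff i = x.coeff i + y.coeff i := by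
  rw [coeff_add, Finsupp.add_apply]

theorem coeff_sum' {ι : Type*} (s : Finset ι) (f : ι → Cy R m) (i : ZMod m) :
    (∑ j ∈ s, f j).coeff i = ∑ j ∈ s, (f j).coeff i := by
  rw [coeff_sum, Finsupp.finsetSum_apply]

theorem coeff_one' [NeZero m] (i : ZMod m) : (1 : Cy R m).coeff i = if i = 0 then 1 else 0 := by
  classical
  rw [one_def, coeff_single, Finsupp.single_apply]
  simp only [eq_comm]

theorem coeff_mul' [NeZero m] (x y : Cy R m) (n : ZMod m) :
    (x * y).coeff n = ∑ i, x.coeff i * y.coeff (n - i) := by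
  classical
  rw [coeff_mul_antidiag x y n ((univ : Finset (ZMod m)).map
    ⟨fun i => (i, n - i), fun i j h => (Prod.ext_iff.1 h).1⟩), Finset.sum_map]
  · rfl
  · rintro ⟨a, b⟩
    simp only [Finset.mem_map, mem_univ, true_and, Prod.ext_iff]
    constructor
    · rintro ⟨i, rfl, rfl⟩; exact add_sub_cancel i n
    · intro h; exact ⟨a, rfl, show n - a = b by rw [← h, add_sub_cancel_left]⟩

/-- The element with prescribed coefficients. -/
noncomputable def ofFn [NeZero m] (a : ZMod m → R) : Cy R m := ∑ i, single i (a i)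

theorem coeff_ofFn [NeZero m] (a : ZMod m → R) (i : ZMod m) : (ofFn a).coeff i = a i := by
  classical
  rw [ofFn, coeff_sum', Finset.sum_eq_single i]
  · rw [coeff_single, Finsupp.single_apply, if_pos rfl]
  · intro j _ hj; rw [coeff_single, Finsupp.single_apply, if_neg hj]
  · intro h; exact absurd (mem_univ i) h

theorem eq_ofFn [NeZero m] (x : Cy R m) : x = ofFn x.coeff := cy_ext fun i => (coeff_ofFn _ i).symm

/-- Inversion of the group. -/
noncomputable def st : Cy R m →+* Cy R m := mapDomainRingHom R (negAddMonoidHom : ZMod m →+ ZMod m)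

theorem coeff_st [NeZero m] (x : Cy R m) (i : ZMod m) : (st x).coeff i = x.coeff (-i) := by
  classical
  conv_lhs => rw [eq_ofFn x]
  rw [ofFn, map_sum, coeff_sum', Finset.sum_eq_single (-i)]
  · simp [st]
  · intro j _ hj
    have : ¬ -j = i := fun h => hj (by rw [← h, neg_neg])
    simp [st, Finsupp.single_apply, this]
  · intro h; exact absurd (mem_univ _) h

theorem st_st [NeZero m] (x : Cy R m) : st (st x) = x :=
  cy_ext fun i => by rw [coeff_st, coeff_st, neg_neg]

/-- The sum of all group elements. -/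
noncomputable def allOnes [NeZero m] : Cy R m := ofFn fun _ => 1

theorem coeff_mul_single' [NeZero m] (x : Cy R m) (h : ZMod m) (c : R) (n : ZMod m) :
    (x * single h c).coeff n = x.coeff (n - h) * c := by
  classical
  rw [coeff_mul', Finset.sum_eq_single (n - h)]
  · rw [sub_sub_cancel, coeff_single, Finsupp.single_apply, if_pos rfl]
  · intro j _ hj
    rw [coeff_single, Finsupp.single_apply, if_neg fun hh => hj (by rw [hh, sub_sub_cancel]), mul_zero]
  · intro hni; exact absurd (mem_univ _) hni

theorem coeff_allOnes [NeZero m] (i : ZMod m) : (allOnes (R := R) (m := m)).coeff i = 1 := coeff_ofFn _ i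

theorem mul_allOnes [NeZero m] (x : Cy R m) : x * allOnes = (∑ i, x.coeff i) • allOnes :=
  cy_ext fun n => by
    rw [coeff_mul', coeff_smul_apply, coeff_allOnes, smul_eq_mul, mul_one]
    exact Finset.sum_congr rfl fun i _ => by rw [coeff_allOnes, mul_one]

/-- Reduction of the coefficients modulo `p`. -/
noncomputable def red (p : ℕ) : Cy ℤ m →+* Cy (ZMod p) m := mapRingHom (ZMod m) (Int.castRingHom (ZMod p))

theorem coeff_red (p : ℕ) (x : Cy ℤ m) (i : ZMod m) : (red p x).coeff i = (x.coeff i : ZMod p) := by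
  simp [red, mapRingHom, AddMonoidAlgebra.map]

theorem red_st [NeZero m] (p : ℕ) (x : Cy ℤ m) : red p (st x) = st (red p x) :=
  cy_ext fun i => by rw [coeff_red, coeff_st, coeff_st, coeff_red]

theorem coeff_pow_prime [NeZero m] {p : ℕ} [Fact p.Prime] [CharP R p] (x : Cy R m) (n : ZMod m) :
    (x ^ p).coeff n = ∑ i ∈ univ.filter (fun i : ZMod m => (p : ZMod m) * i = n), x.coeff i ^ p := by
  classical
  haveI : CharP (Cy R m) p := charP_of_injective_ringHom
    (f := (AddMonoidAlgebra.singleZeroRingHom : R →+* Cy R m)) (fun a b h => by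
      simpa using congrArg (fun z : Cy R m => z.coeff 0) h) p
  conv_lhs => rw [eq_ofFn x]
  rw [ofFn, sum_pow_char, coeff_sum', Finset.sum_filter]
  refine Finset.sum_congr rfl fun i _ => ?_
  rw [single_pow, coeff_single, Finsupp.single_apply, nsmul_eq_mul]

/-- Evaluation at an `m`-th root of unity. -/
noncomputable def rootHom [NeZero m] {A : Type*} [CommRing A] (ξ : A) (hξ : ξ ^ m = 1) :
    Multiplicative (ZMod m) →* A where
  toFun a := ξ ^ a.toAdd.val
  map_one' := by simp
  map_mul' a b := by rw [toAdd_mul, ZMod.val_add, ← pow_add, ← pow_eq_pow_mod _ hξ]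

/-- Evaluation at an `m`-th root of unity, as a ring map on the integral group algebra. -/
noncomputable def ev [NeZero m] {A : Type*} [CommRing A] (ξ : A) (hξ : ξ ^ m = 1) : Cy ℤ m →+* A :=
  (AddMonoidAlgebra.lift ℤ A (ZMod m) (rootHom ξ hξ)).toRingHom

theorem ev_eq [NeZero m] {A : Type*} [CommRing A] (ξ : A) (hξ : ξ ^ m = 1) (x : Cy ℤ m) :
    ev ξ hξ x = ∑ i : ZMod m, (x.coeff i : A) * ξ ^ i.val := by
  conv_lhs => rw [eq_ofFn x]
  rw [ofFn, map_sum]
  refine Finset.sum_congr rfl fun i _ => ?_
  show AddMonoidAlgebra.lift ℤ A (ZMod m) (rootHom ξ hξ) _ = _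
  rw [lift_single, zsmul_eq_mul]
  rfl

/-- Sums over `ZMod m` as sums over a range. -/
theorem sum_zmod [NeZero m] {A : Type*} [AddCommMonoid A] (g : ZMod m → A) :
    ∑ i, g i = ∑ v ∈ range m, g (v : ZMod m) := by
  refine Finset.sum_bij' (fun i _ => i.val) (fun v _ => (v : ZMod m))
    (fun i _ => mem_range.2 i.val_lt) (fun _ _ => mem_univ _) (fun i _ => ZMod.natCast_zmod_val i)
    (fun v hv => ZMod.val_cast_of_lt (mem_range.1 hv)) (fun i _ => by rw [ZMod.natCast_zmod_val])

theorem sum_range_periodic {A : Type*} [AddCommMonoid A] (G : ℕ → A) (q : ℕ) (hG : ∀ v, G (v + q) = G v) :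
    ∀ j : ℕ, ∑ v ∈ range (j * q), G v = j • ∑ v ∈ range q, G v := by
  intro j
  induction j with
  | zero => simp
  | succ j ih =>
    rw [Nat.succ_mul, Finset.sum_range_add, ih, succ_nsmul]
    congr 1
    refine Finset.sum_congr rfl fun v _ => ?_
    have : ∀ t, G (t * q + v) = G v := by
      intro t
      induction t with
      | zero => simp
      | succ t ih' => rw [Nat.succ_mul, add_right_comm, hG, ih']
    exact this j

/-- A sum of a periodic function is divisible by the number of periods. -/
theorem sum_periodic [NeZero m] {A : Type*} [AddCommMonoid A] (g : ZMod m → A) {p q : ℕ} (hm : m = p * q)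
    (hg : ∀ i, g (i + (q : ZMod m)) = g i) : ∑ i, g i = p • ∑ v ∈ range q, g (v : ZMod m) := by
  rw [sum_zmod, show range m = range (p * q) from congrArg range hm,
    sum_range_periodic (fun v => g (v : ZMod m)) q (fun v => by simp [hg]) p]

/-- Fourier inversion. -/
theorem eq_zero_of_ev [NeZero m] (x : Cy ℤ m)
    (h : ∀ (ξ : ℂ) (hξ : ξ ^ m = 1), ev ξ hξ x = 0) : x = 0 := by
  classical
  let P : Polynomial ℂ := ∑ i : ZMod m, Polynomial.monomial i.val (x.coeff i : ℂ)
  have hdeg : P.natDegree < m := by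
    refine lt_of_le_of_lt (Polynomial.natDegree_sum_le_of_forall_le _ _ (n := m - 1) fun i _ =>
      (Polynomial.natDegree_monomial_le _).trans ?_) ?_
    · have := i.val_lt; omega
    · have := NeZero.pos m; omega
  obtain ⟨ζ, hprim⟩ : ∃ ζ : ℂ, IsPrimitiveRoot ζ m := ⟨_, Complex.isPrimitiveRoot_exp m (NeZero.ne m)⟩
  have hP : P = 0 := by
    refine Polynomial.eq_zero_of_natDegree_lt_card_of_eval_eq_zero P
      (f := fun v : Fin m => ζ ^ (v : ℕ))
      (fun a b hab => Fin.ext (hprim.pow_inj a.2 b.2 hab)) (fun v => ?_) (by simpa using hdeg)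
    have hv : (ζ ^ (v : ℕ)) ^ m = 1 := by
      rw [← pow_mul, mul_comm, pow_mul, hprim.pow_eq_one, one_pow]
    have := h _ hv
    rw [ev_eq] at this
    simpa [P, Polynomial.eval_finsetSum] using this
  refine cy_ext fun i => ?_
  have := congrArg (fun Q : Polynomial ℂ => Q.coeff i.val) hP
  simp only [P, Polynomial.finsetSum_coeff, Polynomial.coeff_monomial, Polynomial.coeff_zero] at this
  rw [Finset.sum_eq_single i] at this
  · simpa using this
  · intro j _ hj; rw [if_neg fun hji => hj (ZMod.val_injective m hji)]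
  · intro hni; exact absurd (mem_univ i) hni

/-- An element killed by every nontrivial character is constant. -/
theorem const_of_ev [NeZero m] (x : Cy ℤ m)
    (h : ∀ (ξ : ℂ) (hξ : ξ ^ m = 1), ξ ≠ 1 → ev ξ hξ x = 0) (i j : ZMod m) : x.coeff i = x.coeff j := by
  have h0 : x * (1 - single (1 : ZMod m) (1 : ℤ)) = 0 := by
    refine eq_zero_of_ev _ fun ξ hξ => ?_
    by_cases h1 : ξ = 1
    · subst h1
      rw [map_mul]
      have : ev (1 : ℂ) hξ (1 - single (1 : ZMod m) (1 : ℤ)) = 0 := by
        rw [map_sub, map_one, ev_eq]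
        simp [coeff_single, Finsupp.single_apply]
      rw [this, mul_zero]
    · rw [map_mul, h ξ hξ h1, zero_mul]
  have hstep : ∀ k : ZMod m, x.coeff (k + 1) = x.coeff k := fun k => by
    have := congrArg (fun z : Cy ℤ m => z.coeff (k + 1)) h0
    rw [mul_sub, mul_one, coeff_sub, Finsupp.sub_apply, coeff_mul_single', mul_one, add_sub_cancel_right] at this
    simpa [sub_eq_zero] using this
  have hall : ∀ k : ZMod m, x.coeff k = x.coeff 0 := fun k => by
    rw [← ZMod.natCast_zmod_val k]
    induction k.val with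
    | zero => simp
    | succ t ih => rw [Nat.cast_succ, hstep, ih]
  rw [hall i, hall j]

end CfsgLib.DihedralSR
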