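import Cfsg.Agent.Lib.Perm.Dihedral.SRing

/-!
# Powers in a Schur ring over a dihedral group, and their reductions modulo a prime
-/

set_option autoImplicit false

namespace CfsgLib.DihedralSR

open AddMonoidAlgebra Finset DihedralGroup

variable {m : ℕ}

namespace Pr

noncomputable instance : Neg (Pr m) := ⟨fun X => ⟨-X.a, -X.b⟩⟩

theorem neg_a (X : Pr m) : (-X).a = -X.a := rfl
theorem neg_b (X : Pr m) : (-X).b = -X.b := rfl
theorem zero_a : (0 : Pr m).a = 0 := rfl
theorem zero_b : (0 : Pr m).b = 0 := rfl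

noncomputable instance : AddCommGroup (Pr m) where
  add_assoc X Y Z := by ext1 <;> simp only [add_a, add_b] <;> abel
  zero_add X := by ext1 <;> simp [add_a, add_b, zero_a, zero_b]
  add_zero X := by ext1 <;> simp [add_a, add_b, zero_a, zero_b]
  nsmul := nsmulRec
  zsmul := zsmulRec
  neg_add_cancel X := by ext1 <;> simp [add_a, add_b, zero_a, zero_b, neg_a, neg_b]
  add_comm X Y := by ext1 <;> simp only [add_a, add_b] <;> abel

theorem sub_a (X Y : Pr m) : (X - Y).a = X.a - Y.a := by rw [sub_eq_add_neg, add_a, neg_a, sub_eq_add_neg]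
theorem sub_b (X Y : Pr m) : (X - Y).b = X.b - Y.b := by rw [sub_eq_add_neg, add_b, neg_b, sub_eq_add_neg]

variable [NeZero m]

/-- The constant function `c` at the identity. -/
noncomputable def scal (c : ℤ) : Pr m := (1 : Pr m).map (fun v => if v = 1 then c else 0)

/-- The constant function with value `1`. -/
noncomputable def full : Pr m := (1 : Pr m).map fun _ => 1

theorem map_a (X : Pr m) (φ : ℤ → ℤ) (i : ZMod m) : (X.map φ).a.coeff i = φ (X.a.coeff i) := coeff_ofFn _ i
theorem map_b (X : Pr m) (φ : ℤ → ℤ) (i : ZMod m) : (X.map φ).b.coeff i = φ (X.b.coeff i) := coeff_ofFn _ i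

theorem scal_a (c : ℤ) (i : ZMod m) : (scal c : Pr m).a.coeff i = if i = 0 then c else 0 := by
  rw [scal, map_a, one_a, coeff_one']
  by_cases h : i = 0 <;> simp [h]

theorem scal_b (c : ℤ) : (scal c : Pr m).b = 0 := cy_ext fun i => by
  rw [scal, map_b, one_b]; simp

theorem full_a : (full : Pr m).a = allOnes := cy_ext fun i => by rw [full, map_a, coeff_allOnes]
theorem full_b : (full : Pr m).b = allOnes := cy_ext fun i => by rw [full, map_b, coeff_allOnes]

end Pr

variable [NeZero m]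

/-- Invariance of a function on `ZMod m` under the units. -/
def Rat {R : Type*} [Semiring R] (A : Cy R m) : Prop :=
  ∀ (k : (ZMod m)ˣ) (i : ZMod m), A.coeff ((k : ZMod m) * i) = A.coeff i

/-- All values are `0` or `1`. -/
def Bin (A : Cy ℤ m) : Prop := ∀ i, A.coeff i = 0 ∨ A.coeff i = 1

/-- All values off the identity agree. -/
def Flat (X : Pr m) : Prop := ∃ c : ℤ, (∀ i, i ≠ 0 → X.a.coeff i = c) ∧ ∀ j, X.b.coeff j = c

theorem rat_ofFn_comp {A : Cy ℤ m} (hA : Rat A) (φ : ℤ → ℤ) : Rat (ofFn fun i => φ (A.coeff i)) :=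
  fun k i => by rw [coeff_ofFn, coeff_ofFn, hA k i]

theorem rat_mul {R : Type*} [CommRing R] {A B : Cy R m} (hA : Rat A) (hB : Rat B) : Rat (A * B) := fun k n => by
  rw [coeff_mul', coeff_mul']
  refine (Fintype.sum_equiv (Units.mulLeft k) _ _ fun i => ?_).symm
  rw [Units.mulLeft_apply, hA k i, ← mul_sub, hB k]

theorem rat_red (p : ℕ) {A : Cy ℤ m} (hA : Rat A) : Rat (red p A) := fun k i => by
  rw [coeff_red, coeff_red, hA k i]

theorem rat_pow {R : Type*} [CommRing R] {A : Cy R m} (hA : Rat A) : ∀ n : ℕ, Rat (A ^ n)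
  | 0 => fun k i => by
    rw [pow_zero, coeff_one', coeff_one']
    exact if_congr (Units.mul_right_eq_zero k) rfl rfl
  | n + 1 => by rw [pow_succ]; exact rat_mul (rat_pow hA n) hA

/-- The pair of coefficient polynomials of a power. -/
def PQ {R : Type*} [CommRing R] (A E : R) : ℕ → R × R
  | 0 => (1, 0)
  | n + 1 => ((PQ A E n).1 * A + (PQ A E n).2 * E, (PQ A E n).1 + (PQ A E n).2 * A)

theorem PQ_map {R S : Type*} [CommRing R] [CommRing S] (φ : R →+* S) (A E : R) :
    ∀ n, PQ (φ A) (φ E) n = (φ (PQ A E n).1, φ (PQ A E n).2)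
  | 0 => by simp [PQ]
  | n + 1 => by simp [PQ, PQ_map φ A E n, map_add, map_mul]

theorem PQ_quad {R : Type*} [CommRing R] (A E : R) : ∀ n,
    ((⟨A, 1⟩ : QuadraticAlgebra R E 0) ^ n) = ⟨(PQ A E n).1, (PQ A E n).2⟩
  | 0 => by ext <;> simp [PQ, QuadraticAlgebra.re_one, QuadraticAlgebra.im_one]
  | n + 1 => by
    rw [pow_succ, PQ_quad A E n]
    ext <;> simp [PQ] <;> ring

theorem PQ_charP {R : Type*} [CommRing R] (p : ℕ) [Fact p.Prime] [CharP R p] (A E : R) :
    (∀ k, p = 2 * k + 1 → PQ A E p = (A ^ p, E ^ k)) ∧ (p = 2 → PQ A E p = (A ^ 2 + E, 0)) ∧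
      (E = 0 → PQ A E p = (A ^ p, 0)) := by
  haveI : CharP (QuadraticAlgebra R E 0) p :=
    charP_of_injective_ringHom (f := algebraMap R (QuadraticAlgebra R E 0)) QuadraticAlgebra.algebraMap_injective p
  have hω : ∀ k : ℕ, (⟨0, 1⟩ : QuadraticAlgebra R E 0) ^ (2 * k) = algebraMap R _ (E ^ k) := fun k => by
    rw [pow_mul, map_pow]
    congr 1
    rw [QuadraticAlgebra.algebraMap_eq, sq]
    ext <;> simp
  have key : (⟨(PQ A E p).1, (PQ A E p).2⟩ : QuadraticAlgebra R E 0) =
      algebraMap R _ (A ^ p) + (⟨0, 1⟩ : QuadraticAlgebra R E 0) ^ p := by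
    rw [← PQ_quad, map_pow, ← add_pow_char]
    congr 1
    rw [QuadraticAlgebra.algebraMap_eq]
    ext <;> simp
  refine ⟨fun k hk => ?_, fun h2 => ?_, fun h0 => ?_⟩
  · rw [show (⟨0, 1⟩ : QuadraticAlgebra R E 0) ^ p = (⟨0, E ^ k⟩ : QuadraticAlgebra R E 0) by
      rw [hk, pow_succ, hω, QuadraticAlgebra.algebraMap_eq]; ext <;> simp,
      QuadraticAlgebra.algebraMap_eq] at key
    simpa [QuadraticAlgebra.ext_iff, Prod.ext_iff] using key
  · rw [show (⟨0, 1⟩ : QuadraticAlgebra R E 0) ^ p = algebraMap R _ E by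
      rw [h2, show 2 = 2 * 1 from rfl, hω, pow_one], QuadraticAlgebra.algebraMap_eq,
      QuadraticAlgebra.algebraMap_eq] at key
    simpa [QuadraticAlgebra.ext_iff, Prod.ext_iff, h2] using key
  · have hsq : (⟨0, 1⟩ : QuadraticAlgebra R E 0) ^ (2 * 1) = 0 := by rw [hω, pow_one, h0, map_zero]
    rw [show (⟨0, 1⟩ : QuadraticAlgebra R E 0) ^ p = 0 from
      pow_eq_zero_of_le (Fact.out (p := p.Prime)).two_le (by simpa using hsq),
      QuadraticAlgebra.algebraMap_eq, add_zero] at key
    simpa [QuadraticAlgebra.ext_iff, Prod.ext_iff] using key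

namespace SR

variable (S : SR m)

theorem zero : S.Inv 0 := by
  have := S.comp (fun _ => 0) S.one
  convert this using 1
  ext1 <;> exact cy_ext fun i => by simp [Pr.zero_a, Pr.zero_b, Pr.map, coeff_ofFn]

theorem neg {X : Pr m} (hX : S.Inv X) : S.Inv (-X) := by
  have := S.comp (fun v => -v) hX
  convert this using 1
  ext1 <;> exact cy_ext fun i => by simp [Pr.neg_a, Pr.neg_b, Pr.map, coeff_ofFn]

theorem sub' {X Y : Pr m} (hX : S.Inv X) (hY : S.Inv Y) : S.Inv (X - Y) := by
  rw [sub_eq_add_neg]; exact S.add hX (S.neg hY)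

theorem sum {ι : Type*} (s : Finset ι) (f : ι → Pr m) (h : ∀ i ∈ s, S.Inv (f i)) : S.Inv (∑ i ∈ s, f i) :=
  Finset.sum_induction _ S.Inv (fun _ _ => S.add) S.zero h

theorem scal (c : ℤ) : S.Inv (Pr.scal c) := S.comp _ S.one

theorem full : S.Inv Pr.full := S.comp _ S.one

theorem pow_eq {X : Pr m} (hX : S.Inv X) : ∀ n : ℕ,
    (X ^ n).a = (PQ X.a (X.b * st X.b) n).1 ∧ (X ^ n).b = (PQ X.a (X.b * st X.b) n).2 * X.b
  | 0 => by simp [PQ, Pr.one_a, Pr.one_b]
  | n + 1 => by
    obtain ⟨ha, hb⟩ := pow_eq hX n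
    rw [pow_succ, Pr.mul_a, Pr.mul_b, ha, hb, S.sym hX]
    constructor <;> simp only [PQ] <;> ring

theorem red_pow {X : Pr m} (hX : S.Inv X) (p n : ℕ) :
    red p (X ^ n).a = (PQ (red p X.a) (red p (X.b * st X.b)) n).1 ∧
      red p (X ^ n).b = (PQ (red p X.a) (red p (X.b * st X.b)) n).2 * red p X.b := by
  obtain ⟨ha, hb⟩ := S.pow_eq hX n
  rw [ha, hb, PQ_map, map_mul]
  exact ⟨rfl, rfl⟩

end SR

theorem coeff_pow_prime' {p : ℕ} [Fact p.Prime] (A : Cy ℤ m) (n : ZMod m) :
    ((red p A) ^ p).coeff n =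
      ((∑ i ∈ univ.filter (fun i : ZMod m => (p : ZMod m) * i = n), A.coeff i : ℤ) : ZMod p) := by
  rw [coeff_pow_prime, Int.cast_sum]
  exact Finset.sum_congr rfl fun i _ => by rw [ZMod.pow_card, coeff_red]

theorem charP_cy (p : ℕ) [Fact p.Prime] : CharP (Cy (ZMod p) m) p :=
  charP_of_injective_ringHom
    (f := (AddMonoidAlgebra.singleZeroRingHom : ZMod p →+* Cy (ZMod p) m)) (fun a b h => by
      simpa using congrArg (fun z : Cy (ZMod p) m => z.coeff 0) h) p

theorem bin_eq_of_red {p : ℕ} [Fact p.Prime] {a b : ℤ} (ha : a = 0 ∨ a = 1) (hb : b = 0 ∨ b = 1)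
    (h : (a : ZMod p) = b) : a = b := by
  rcases ha with rfl | rfl <;> rcases hb with rfl | rfl <;> simp_all

theorem fibre_eq {p q : ℕ} (hm : m = p * q) (hp : 0 < p) (i : ZMod m) :
    univ.filter (fun x : ZMod m => (p : ZMod m) * x = (p : ZMod m) * i) =
      (range p).image (fun j => i + ((j * q : ℕ) : ZMod m)) ∧
    Set.InjOn (fun j : ℕ => i + ((j * q : ℕ) : ZMod m)) (range p) := by
  classical
  have hq : 0 < q := by
    rcases Nat.eq_zero_or_pos q with h | h
    · exact absurd (by simp [hm, h]) (NeZero.ne m)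
    · exact h
  refine ⟨?_, ?_⟩
  · ext x
    simp only [mem_filter, mem_univ, true_and, mem_image, mem_range]
    constructor
    · intro h
      have hd : (p : ZMod m) * (x - i) = 0 := by rw [mul_sub, h, sub_self]
      rw [← ZMod.natCast_zmod_val (x - i), ← Nat.cast_mul, ZMod.natCast_eq_zero_iff] at hd
      have hd' : q ∣ (x - i).val := by
        exact Nat.dvd_of_mul_dvd_mul_left hp ((dvd_of_eq hm.symm).trans hd)
      obtain ⟨j, hj⟩ := hd'
      refine ⟨j, ?_, ?_⟩
      · have := (x - i).val_lt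
        rw [hj] at this
        exact Nat.lt_of_mul_lt_mul_left (a := q) (this.trans_eq (by rw [hm, mul_comm]))
      · rw [mul_comm j q, ← hj, ZMod.natCast_zmod_val, add_sub_cancel]
    · rintro ⟨j, -, rfl⟩
      rw [mul_add, ← Nat.cast_mul, show p * (j * q) = j * m by rw [hm]; ring, Nat.cast_mul,
        ZMod.natCast_self, mul_zero, add_zero]
  · intro a ha b hb hab
    simp only [coe_range, Set.mem_Iio] at ha hb
    have h := congrArg ZMod.val (add_left_cancel hab)
    rw [ZMod.val_cast_of_lt (by rw [hm]; exact Nat.mul_lt_mul_of_pos_right ha hq),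
      ZMod.val_cast_of_lt (by rw [hm]; exact Nat.mul_lt_mul_of_pos_right hb hq)] at h
    exact Nat.eq_of_mul_eq_mul_right hq h

/-- Vanishing of a fibre sum modulo `p` makes a binary function constant on the fibre. -/
theorem fibre_step {p q : ℕ} [Fact p.Prime] (hm : m = p * q) {A : Cy ℤ m} (hB : Bin A)
    (h : ∀ n : ZMod m, n ≠ 0 → ((red p A) ^ p).coeff n = 0) (i : ZMod m) (hpi : (p : ZMod m) * i ≠ 0) :
    A.coeff (i + (q : ZMod m)) = A.coeff i := by
  classical
  have hp : p.Prime := Fact.out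
  have hs := h _ hpi
  rw [coeff_pow_prime', (fibre_eq hm hp.pos i).1, Finset.sum_image (fibre_eq hm hp.pos i).2,
    ZMod.intCast_zmod_eq_zero_iff_dvd] at hs
  set s := ∑ j ∈ range p, A.coeff (i + ((j * q : ℕ) : ZMod m)) with hsdef
  have h0 : 0 ≤ s := Finset.sum_nonneg fun j _ => by rcases hB (i + ((j * q : ℕ) : ZMod m)) with e | e <;> omega
  have hmem : ∀ j ∈ range p, A.coeff (i + ((j * q : ℕ) : ZMod m)) ≤ 1 := fun j _ => by
    rcases hB (i + ((j * q : ℕ) : ZMod m)) with e | e <;> omega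
  have hall : ∀ a ∈ range p, ∀ b ∈ range p,
      A.coeff (i + ((a * q : ℕ) : ZMod m)) = A.coeff (i + ((b * q : ℕ) : ZMod m)) := by
    intro a ha b hb
    by_cases hs0 : s = 0
    · have := (Finset.sum_eq_zero_iff_of_nonneg (fun j _ => by
        rcases hB (i + ((j * q : ℕ) : ZMod m)) with e | e <;> omega)).1 (hsdef.symm.trans hs0)
      rw [this a ha, this b hb]
    · have hps : (p : ℤ) ≤ s := Int.le_of_dvd (by omega) hs
      have hsp : s = ∑ j ∈ range p, (1 : ℤ) := by
        refine le_antisymm (Finset.sum_le_sum hmem) ?_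
        simpa using hps
      have := (Finset.sum_eq_sum_iff_of_le hmem).1 (hsdef.symm.trans hsp)
      rw [this a ha, this b hb]
  have := hall 1 (mem_range.2 hp.one_lt) 0 (mem_range.2 hp.pos)
  simpa using this

/-- A rational binary function whose fibre sums vanish modulo `p` off the identity is periodic
after changing its value at the identity. -/
theorem periodic_of_fibre {p q : ℕ} [Fact p.Prime] (hm : m = p * q) {A : Cy ℤ m} (hR : Rat A) (hB : Bin A)
    (h : ∀ n : ZMod m, n ≠ 0 → ((red p A) ^ p).coeff n = 0) (i : ZMod m) :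
    (if i + (q : ZMod m) = 0 then A.coeff q else A.coeff (i + q)) = if i = 0 then A.coeff q else A.coeff i := by
  classical
  have hp : p.Prime := Fact.out
  have hq0 : (p : ZMod m) * (q : ZMod m) = 0 := by
    rw [← Nat.cast_mul, ← hm, ZMod.natCast_self]
  by_cases hpi : (p : ZMod m) * i = 0
  · have hcase : ∀ x : ZMod m, (p : ZMod m) * x = 0 → x ≠ 0 → A.coeff x = A.coeff q := by
      intro x hx hx0
      have hxf : x ∈ univ.filter (fun y : ZMod m => (p : ZMod m) * y = (p : ZMod m) * 0) := by simp [hx]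
      rw [(fibre_eq hm hp.pos 0).1] at hxf
      simp only [mem_image, mem_range, zero_add] at hxf
      obtain ⟨j, hj, rfl⟩ := hxf
      have hj0 : ¬ p ∣ j := fun hd => hx0 (by
        obtain rfl : j = 0 := Nat.eq_zero_of_dvd_of_lt hd hj
        simp)
      obtain ⟨k, hk⟩ := ZMod.unitsMap_surjective (n := p) (m := m) ⟨q, hm⟩
        (ZMod.unitOfCoprime j ((hp.coprime_iff_not_dvd.2 hj0).symm))
      have hk' : ((k : ZMod m).val : ZMod p) = (j : ZMod p) := by
        have := congrArg Units.val hk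
        rw [ZMod.unitsMap_val, ZMod.coe_unitOfCoprime] at this
        rw [← this, ← ZMod.cast_eq_val]
      rw [← hR k (q : ZMod m)]
      congr 1
      rw [ZMod.natCast_eq_natCast_iff] at hk'
      have := Nat.ModEq.mul_right' q hk'
      rw [← hm, ← ZMod.natCast_eq_natCast_iff, Nat.cast_mul, ZMod.natCast_zmod_val] at this
      exact this.symm
    have h1 : (p : ZMod m) * (i + q) = 0 := by rw [mul_add, hpi, hq0, add_zero]
    split_ifs with a b b
    · rfl
    · exact (hcase i hpi b).symm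
    · exact hcase _ h1 a
    · rw [hcase _ h1 a, hcase _ hpi b]
  · have hne : i ≠ 0 := fun h => hpi (by rw [h, mul_zero])
    have hne' : i + (q : ZMod m) ≠ 0 := fun h => hpi (by
      simpa [mul_add, hq0] using congrArg (fun x => (p : ZMod m) * x) h)
    rw [if_neg hne, if_neg hne']
    exact fibre_step hm hB h i hpi

namespace SR

variable (S : SR m)

/-- The image of a binary element under a multiplier. -/
theorem mult {X : Pr m} (hX : S.Inv X) (hA : Bin X.a) (k : (ZMod m)ˣ) :
    ∃ Y, S.Inv Y ∧ Bin Y.a ∧ Bin Y.b ∧ ∀ i, Y.a.coeff ((k : ZMod m) * i) = X.a.coeff i := by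
  obtain ⟨q', hq', hprime, hk⟩ := Nat.forall_exists_prime_gt_and_eq_mod k.isUnit 2
  haveI := Fact.mk hprime
  haveI := charP_cy (m := m) q'
  obtain ⟨j, hj⟩ : Odd q' := hprime.odd_of_ne_two (by omega)
  refine ⟨(X ^ q').map (fun v => if v % q' = 1 then 1 else 0), S.comp _ (S.pow hX _),
    fun i => by rw [Pr.map_a]; split_ifs <;> simp, fun i => by rw [Pr.map_b]; split_ifs <;> simp, fun i => ?_⟩
  have h1 := (S.red_pow hX q' q').1
  rw [((PQ_charP q' _ _).1 j hj)] at h1
  have h2 := congrArg (fun z => z.coeff ((k : ZMod m) * i)) h1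
  simp only [coeff_pow_prime', coeff_red] at h2
  have hf : univ.filter (fun x : ZMod m => (q' : ZMod m) * x = (k : ZMod m) * i) = {i} := by
    ext x; simp [hk, k.mul_right_inj]
  rw [hf, Finset.sum_singleton] at h2
  rw [Pr.map_a]
  have h3 := (ZMod.intCast_eq_intCast_iff' _ _ q').1 h2
  rcases hA i with e | e <;> rw [e] at h3 ⊢ <;> rw [h3]
  · simp
  · have : (1 : ℤ) % q' = 1 := Int.emod_eq_of_lt (by omega) (by omega)
    rw [this]; simp

/-- Rationality is inherited by the convolution square of the reflection part. -/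
theorem rat_conv (hm : 2 ≤ m) {X : Pr m} (hX : S.Inv X) (hA : Bin X.a) (hB : Bin X.b) (hR : Rat X.a) :
    Rat (X.b * st X.b) := fun k n => by
  obtain ⟨q', hq', hprime, hk⟩ := Nat.forall_exists_prime_gt_and_eq_mod k.isUnit (m + 2)
  haveI := Fact.mk hprime
  haveI := charP_cy (m := m) q'
  obtain ⟨j, hj⟩ : Odd q' := hprime.odd_of_ne_two (by omega)
  obtain ⟨h1, h1b⟩ := S.red_pow hX q' q'
  rw [((PQ_charP q' _ _).1 j hj)] at h1 h1b
  -- the rotation part of the power is congruent to that of `X`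
  have h2 : red q' (X ^ q').a = red q' X.a := cy_ext fun x => by
    rw [h1, coeff_pow_prime']
    obtain ⟨i, rfl⟩ : ∃ i, (k : ZMod m) * i = x := ⟨(↑k⁻¹ : ZMod m) * x, by rw [Units.mul_inv_cancel_left]⟩
    have hf : univ.filter (fun y : ZMod m => (q' : ZMod m) * y = (k : ZMod m) * i) = {i} := by
      ext y; simp [hk, k.mul_right_inj]
    rw [hf, Finset.sum_singleton, coeff_red, hR k i]
  let Z := (X ^ q').map (fun v => v % q') - X
  have hZa : Z.a = 0 := cy_ext fun x => by
    have := congrArg (fun z => z.coeff x) h2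
    simp only [coeff_red] at this
    have h3 := (ZMod.intCast_eq_intCast_iff' _ _ q').1 this
    have h4 : X.a.coeff x % q' = X.a.coeff x := by
      rcases hA x with e | e <;> rw [e] <;> exact Int.emod_eq_of_lt (by omega) (by omega)
    simp only [Z, Pr.sub_a, coeff_sub, Finsupp.sub_apply, Pr.map_a, h3, h4, sub_self, coeff_zero,
      Finsupp.coe_zero, Pi.zero_apply]
  have hZb := S.det hm (S.sub' (S.comp _ (S.pow hX _)) hX) hZa
  have h5 : red q' (X ^ q').b = red q' X.b := cy_ext fun x => by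
    have := congrArg (fun z : Cy ℤ m => z.coeff x) hZb
    simp only [Z, Pr.sub_b, coeff_sub, Finsupp.sub_apply, Pr.map_b, coeff_zero, Finsupp.coe_zero,
      Pi.zero_apply, sub_eq_zero] at this
    rw [coeff_red, coeff_red, ← this, ZMod.intCast_mod]
  set E := X.b * st X.b with hE
  have hstE : st (red q' E) = red q' E := by
    rw [← red_st, hE, map_mul, st_st, mul_comm]
  rw [h1b] at h5
  simp only at h5
  have h6 : red q' E ^ q' = red q' E := by
    have h7 : st (red q' E ^ j * red q' X.b) = st (red q' X.b) := by rw [h5]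
    rw [map_mul, map_pow, hstE] at h7
    calc red q' E ^ q' = (red q' E ^ j * red q' X.b) * (red q' E ^ j * st (red q' X.b)) := by
          rw [hE, map_mul, red_st, hj]; ring
      _ = red q' X.b * st (red q' X.b) := by rw [h5, h7]
      _ = red q' E := by rw [hE, map_mul, red_st]
  have h8 := congrArg (fun z => z.coeff ((k : ZMod m) * n)) h6
  simp only [coeff_pow_prime', coeff_red] at h8
  have hf : univ.filter (fun y : ZMod m => (q' : ZMod m) * y = (k : ZMod m) * n) = {n} := by
    ext y; simp [hk, k.mul_right_inj]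
  rw [hf, Finset.sum_singleton, ZMod.intCast_eq_intCast_iff'] at h8
  have hbd : ∀ x, 0 ≤ E.coeff x ∧ E.coeff x ≤ m := fun x => by
    rw [hE, coeff_mul_st]
    refine ⟨Finset.sum_nonneg fun i _ => ?_, ?_⟩
    · rcases hB i with e | e <;> rcases hB (i - x) with e' | e' <;> rw [e, e'] <;> norm_num
    · calc ∑ i, X.b.coeff i * X.b.coeff (i - x) ≤ ∑ _i : ZMod m, (1 : ℤ) := Finset.sum_le_sum fun i _ => by
            rcases hB i with e | e <;> rcases hB (i - x) with e' | e' <;> rw [e, e'] <;> norm_num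
        _ = m := by simp
  rw [Int.emod_eq_of_lt (hbd n).1 (by have := (hbd n).2; omega),
    Int.emod_eq_of_lt (hbd _).1 (by have := (hbd ((k : ZMod m) * n)).2; omega)] at h8
  exact h8.symm

end SR

end CfsgLib.DihedralSR
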