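import Cfsg.Agent.Lib.Perm.Dihedral.Powers

/-!
# Binary rational functions on a cyclic group with flat spectrum
-/

set_option autoImplicit false

namespace CfsgLib.DihedralSR

open AddMonoidAlgebra Finset

variable {n : ℕ} [NeZero n]

theorem allOnes_shift {R : Type*} [CommRing R] (h : ZMod n) :
    (allOnes : Cy R n) * (1 - single h 1) = 0 := cy_ext fun i => by
  rw [mul_sub, mul_one, coeff_sub, Finsupp.sub_apply, coeff_mul_single', coeff_allOnes, coeff_allOnes,
    mul_one, sub_self, coeff_zero, Finsupp.coe_zero, Pi.zero_apply]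

theorem ev_allOnes (ξ : ℂ) (hξ : ξ ^ n = 1) (h1 : ξ ≠ 1) : ev ξ hξ (allOnes : Cy ℤ n) = 0 := by
  have h := congrArg (ev ξ hξ) (allOnes_shift (R := ℤ) (1 : ZMod n))
  rw [map_mul, map_sub, map_one, map_zero, mul_eq_zero] at h
  refine h.resolve_right fun h2 => h1 ?_
  rw [ev_eq, Finset.sum_eq_single (1 : ZMod n) (fun j _ hj => by
    rw [coeff_single, Finsupp.single_apply, if_neg (Ne.symm hj), Int.cast_zero, zero_mul])
    (fun hni => absurd (mem_univ _) hni), coeff_single, Finsupp.single_apply, if_pos rfl, Int.cast_one,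
    one_mul, sub_eq_zero] at h2
  rw [h2]
  rcases eq_or_ne n 1 with rfl | hn
  · rw [pow_one] at hξ; exact absurd hξ h1
  · haveI := Fact.mk (show 1 < n by have := NeZero.pos n; omega)
    rw [ZMod.val_one, pow_one]

theorem red_allOnes (p : ℕ) : red p (allOnes : Cy ℤ n) = allOnes := cy_ext fun i => by
  rw [coeff_red, coeff_allOnes, coeff_allOnes, Int.cast_one]

theorem exists_unit_half {j : ℕ} (hn : n = 2 ^ (j + 1)) {i : ZMod n} (h0 : i ≠ 0)
    (hz : i ≠ ((2 ^ j : ℕ) : ZMod n)) : ∃ k : (ZMod n)ˣ, (k : ZMod n) * i = i + ((2 ^ j : ℕ) : ZMod n) := by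
  obtain ⟨s, u, hu, hiv⟩ := Nat.exists_eq_pow_mul_and_not_dvd
    (n := i.val) (fun h => h0 ((ZMod.val_eq_zero i).1 h)) 2 (by norm_num)
  obtain ⟨w, hw⟩ : Odd u := Nat.not_even_iff_odd.1 fun h => hu (even_iff_two_dvd.1 h)
  have hlt : i.val < 2 ^ (j + 1) := i.val_lt.trans_eq hn
  have hs : s < j := by
    by_contra hle
    push Not at hle
    obtain ⟨t, rfl⟩ := Nat.exists_eq_add_of_le hle
    rw [hiv, pow_add, pow_succ, mul_assoc] at hlt
    have h2 : 2 ^ t * u < 2 := Nat.lt_of_mul_lt_mul_left hlt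
    have h1 : 0 < 2 ^ t * u := Nat.mul_pos (by positivity) (by omega)
    refine hz ?_
    rw [← ZMod.natCast_zmod_val i, hiv, pow_add, mul_assoc, show 2 ^ t * u = 1 by omega, mul_one]
  obtain ⟨t, ht⟩ := Nat.exists_eq_add_of_lt hs
  have hcop : Nat.Coprime (1 + 2 ^ (t + 1)) n := by
    rw [hn]
    exact Nat.Coprime.pow_right _ (Nat.coprime_two_right.2 (by simp [Nat.odd_add, parity_simps]))
  refine ⟨ZMod.unitOfCoprime _ hcop, ?_⟩
  have e : (1 + 2 ^ (t + 1)) * i.val = i.val + (w * n + 2 ^ j) := by rw [hiv, hn, hw, ht]; ring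
  calc ((ZMod.unitOfCoprime _ hcop : (ZMod n)ˣ) : ZMod n) * i
      = (((1 + 2 ^ (t + 1)) * i.val : ℕ) : ZMod n) := by
        rw [Nat.cast_mul, ZMod.natCast_zmod_val, ZMod.coe_unitOfCoprime]
    _ = i + ((2 ^ j : ℕ) : ZMod n) := by
        rw [e, Nat.cast_add, Nat.cast_add, Nat.cast_mul w, ZMod.natCast_self, mul_zero, zero_add,
          ZMod.natCast_zmod_val]

/-- A binary function supported on a proper image with cube proportional to itself is a delta. -/
theorem single_of_cube {g : Cy ℤ n} {r : ℕ} (hr : r.Prime) (hrn : r ∣ n) (hB : Bin g)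
    (hne : ∃ i, g.coeff i ≠ 0) (hper : ∀ h : ZMod n, h ≠ 0 → ∃ i, g.coeff (i + h) ≠ g.coeff i)
    (hsupp : ∀ i, g.coeff i ≠ 0 → ∃ y, (r : ZMod n) * y = i) (t γ : ℤ) (hc : g ^ 3 = t • g + γ • allOnes) :
    (∑ i, g.coeff i) = 1 ∧ t = 1 := by
  classical
  set a := ∑ i, g.coeff i with ha
  have hg0 : ∀ i, 0 ≤ g.coeff i := fun i => by rcases hB i with e | e <;> omega
  obtain ⟨i0, hi0⟩ := hne
  have hapos : 0 < a := lt_of_lt_of_le (lt_of_le_of_ne (hg0 i0) (Ne.symm hi0))
    (Finset.single_le_sum (fun i _ => hg0 i) (mem_univ i0))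
  obtain ⟨ξ, hξ⟩ : ∃ ξ : ℂ, IsPrimitiveRoot ξ r := ⟨_, Complex.isPrimitiveRoot_exp r hr.ne_zero⟩
  have hξn : ξ ^ n = 1 := by obtain ⟨s, rfl⟩ := hrn; rw [pow_mul, hξ.pow_eq_one, one_pow]
  have hev : ev ξ hξn g = (a : ℂ) := by
    rw [ev_eq, ha, Int.cast_sum]
    refine Finset.sum_congr rfl fun i _ => ?_
    by_cases hi : g.coeff i = 0
    · simp [hi]
    · obtain ⟨y, hy⟩ := hsupp i hi
      have : r ∣ i.val := by
        rw [← hy, ← ZMod.natCast_zmod_val y, ← Nat.cast_mul, ZMod.val_natCast]
        exact (Nat.dvd_mod_iff hrn).2 (dvd_mul_right r _)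
      obtain ⟨s, hs⟩ := this
      rw [hs, pow_mul, hξ.pow_eq_one, one_pow, mul_one]
  have hev1 : ev (1 : ℂ) (one_pow n) g = (a : ℂ) := by rw [ev_eq, ha, Int.cast_sum]; simp
  have hN1 : ev (1 : ℂ) (one_pow n) (allOnes : Cy ℤ n) = (n : ℂ) := by rw [ev_eq]; simp [coeff_allOnes]
  have e1 := congrArg (ev ξ hξn) hc
  rw [map_pow, map_add, map_zsmul, map_zsmul, hev, ev_allOnes ξ hξn (hξ.ne_one hr.one_lt), smul_zero,
    add_zero, zsmul_eq_mul] at e1
  have e2 := congrArg (ev (1 : ℂ) (one_pow n)) hc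
  rw [map_pow, map_add, map_zsmul, map_zsmul, hev1, hN1, zsmul_eq_mul, zsmul_eq_mul] at e2
  have e1' : a ^ 3 = t * a := by exact_mod_cast e1
  have e2' : a ^ 3 = t * a + γ * n := by exact_mod_cast e2
  have hγ : γ = 0 := by
    have : γ * (n : ℤ) = 0 := by linarith
    exact (mul_eq_zero.1 this).resolve_right (by exact_mod_cast NeZero.ne n)
  have hc' : g ^ 3 = t • g := by rw [hc, hγ, zero_smul, add_zero]
  -- differences of the support are periods
  have hclosed : ∀ x y z, g.coeff x ≠ 0 → g.coeff y ≠ 0 → g.coeff z ≠ 0 → g.coeff (x + (y + z)) ≠ 0 := by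
    intro x y z hx hy hz h
    have h2 := congrArg (fun w : Cy ℤ n => w.coeff (x + (y + z))) hc'
    simp only [pow_succ, pow_zero, one_mul, coeff_smul_apply, h, smul_eq_mul, mul_zero] at h2
    rw [coeff_mul', Finset.sum_eq_zero_iff_of_nonneg (fun i _ => mul_nonneg (by
      rw [coeff_mul']; exact Finset.sum_nonneg fun k _ => mul_nonneg (hg0 _) (hg0 _)) (hg0 _))] at h2
    have h3 := h2 (y + z) (mem_univ _)
    rw [add_sub_cancel_right] at h3
    have h4 := (mul_eq_zero.1 h3).resolve_right hx
    rw [coeff_mul', Finset.sum_eq_zero_iff_of_nonneg (fun k _ => mul_nonneg (hg0 _) (hg0 _))] at h4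
    have h5 := h4 y (mem_univ _)
    rw [add_sub_cancel_left] at h5
    exact mul_ne_zero hy hz h5
  have hpair : ∀ y z, g.coeff y ≠ 0 → g.coeff z ≠ 0 → y + z = 0 := by
    intro y z hy hz
    by_contra hne
    obtain ⟨i, hi⟩ := hper _ hne
    set s := univ.filter fun i => g.coeff i ≠ 0 with hs
    have himg : s.image (· + (y + z)) = s := by
      refine Finset.eq_of_subset_of_card_le (fun w hw => ?_) (le_of_eq ?_)
      · obtain ⟨x, hx, rfl⟩ := mem_image.1 hw
        simp only [hs, mem_filter, mem_univ, true_and] at hx ⊢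
        exact hclosed x y z hx hy hz
      · rw [Finset.card_image_of_injective _ (add_left_injective _)]
    have hiff : g.coeff (i + (y + z)) ≠ 0 ↔ g.coeff i ≠ 0 := by
      constructor
      · intro hh
        have : i + (y + z) ∈ s.image (· + (y + z)) := by rw [himg]; simp [hs, hh]
        obtain ⟨x, hx, hxe⟩ := mem_image.1 this
        rw [add_left_injective _ hxe] at hx
        simpa [hs] using hx
      · intro hh; exact hclosed i y z hh hy hz
    rcases hB i with e | e <;> rcases hB (i + (y + z)) with e' | e' <;> simp [e, e'] at hi hiff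
  have ha1 : a = 1 := by
    rw [ha, Finset.sum_eq_single i0 (fun j _ hj => ?_) (fun h => absurd (mem_univ _) h)]
    · exact (hB i0).resolve_left hi0
    · by_contra h
      exact hj (by
        rw [eq_neg_of_add_eq_zero_left (hpair j i0 h hi0), ← eq_neg_of_add_eq_zero_left (hpair i0 i0 hi0 hi0)])
  exact ⟨ha1, by rw [ha1] at e1'; linarith⟩

/-- The binary rational functions without periods whose cube is proportional modulo constants. -/
theorem spectrum (hn : 2 ≤ n) {f : Cy ℤ n} (hB : Bin f) (h0 : f.coeff 0 = 0) (hne : ∃ i, f.coeff i ≠ 0)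
    (hR : Rat f) (hper : ∀ h : ZMod n, h ≠ 0 → ∃ i, f.coeff (i + h) ≠ f.coeff i) (t γ : ℤ)
    (hc : f ^ 3 = t • f + γ • allOnes) :
    t = 1 ∧ ((∑ i, f.coeff i) = 1 ∨ (∑ i, f.coeff i) = n - 1) := by
  classical
  set a := ∑ i, f.coeff i with ha
  by_cases hodd : ∃ r, r.Prime ∧ r ∣ n ∧ r ≠ 2
  · obtain ⟨r, hr, hrn, hr2⟩ := hodd
    obtain ⟨q, hq⟩ := hrn
    haveI := Fact.mk hr
    haveI := charP_cy (m := n) r
    obtain ⟨k, hk⟩ := hr.odd_of_ne_two hr2
    set F := red r f with hF
    have hN : ∀ y : Cy (ZMod r) n, allOnes * y = (∑ i, y.coeff i) • allOnes := fun y => by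
      rw [mul_comm, mul_allOnes]
    have hind : ∀ l, ∃ c : ZMod r, F ^ (2 * l + 1) = ((t : ZMod r) ^ l) • F + c • allOnes := by
      intro l
      induction l with
      | zero => exact ⟨0, by simp⟩
      | succ l ih =>
        obtain ⟨c, hcl⟩ := ih
        have h3 : F ^ 3 = (t : ZMod r) • F + (γ : ZMod r) • allOnes := by
          rw [hF, ← map_pow, hc, map_add, map_zsmul, map_zsmul, red_allOnes, Int.cast_smul_eq_zsmul,
            Int.cast_smul_eq_zsmul]
        refine ⟨(t : ZMod r) ^ l * γ + c * ∑ i, (F ^ 2).coeff i, ?_⟩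
        rw [show 2 * (l + 1) + 1 = (2 * l + 1) + 2 by ring, pow_add, hcl, add_mul, smul_mul_assoc,
          ← pow_succ', h3, smul_mul_assoc, hN, smul_add, smul_smul, smul_smul, smul_smul, add_smul,
          ← pow_succ, add_assoc]
    obtain ⟨c, hck⟩ := hind k
    rw [← hk] at hck
    have hout : ∀ x : ZMod n, (∀ y, (r : ZMod n) * y ≠ x) → (t : ZMod r) ^ k * (f.coeff x : ZMod r) + c = 0 := by
      intro x hx
      have h1 := congrArg (fun w => w.coeff x) hck
      simp only [hF, coeff_pow_prime', coeff_add', coeff_smul_apply, coeff_red, coeff_allOnes, smul_eq_mul,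
        mul_one] at h1
      rw [show univ.filter (fun i : ZMod n => (r : ZMod n) * i = x) = ∅ from
        Finset.filter_eq_empty_iff.2 fun y _ => hx y] at h1
      simpa using h1.symm
    have hone : ∀ y, (r : ZMod n) * y ≠ 1 := fun y h => by
      have := congrArg (ZMod.castHom (show r ∣ n from ⟨q, hq⟩) (ZMod r)) h
      rw [map_mul, map_natCast, ZMod.natCast_self, zero_mul, map_one] at this
      exact zero_ne_one this
    have hq0 : (q : ZMod n) ≠ 0 := fun h => by
      rw [ZMod.natCast_eq_zero_iff] at h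
      have hqp : 0 < q := Nat.pos_of_ne_zero (by rintro rfl; simp at hq; exact NeZero.ne n hq)
      have := Nat.le_of_dvd hqp h
      have := hr.two_le
      nlinarith
    obtain ⟨i, hi⟩ := hper _ hq0
    have hni : ((t : ZMod r) ^ k * (f.coeff ((r : ZMod n) * i) : ZMod r) + c) ≠ 0 := by
      have h1 := congrArg (fun w => w.coeff ((r : ZMod n) * i)) hck
      simp only [hF, coeff_pow_prime', coeff_add', coeff_smul_apply, coeff_red, coeff_allOnes, smul_eq_mul,
        mul_one] at h1
      rw [← h1, (fibre_eq hq hr.pos i).1, Finset.sum_image (fibre_eq hq hr.pos i).2, Ne,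
        ZMod.intCast_zmod_eq_zero_iff_dvd]
      set v := fun j : ℕ => f.coeff (i + ((j * q : ℕ) : ZMod n)) with hv
      have hv1 : v 1 ≠ v 0 := by simpa [hv] using hi
      have hb : ∀ j, v j = 0 ∨ v j = 1 := fun j => hB _
      have hpos : 0 < ∑ j ∈ range r, v j := Finset.sum_pos' (fun j _ => by rcases hb j with e | e <;> omega) (by
        rcases hb 1 with e | e
        · exact ⟨0, mem_range.2 hr.pos, by rcases hb 0 with e' | e' <;> omega⟩
        · exact ⟨1, mem_range.2 hr.one_lt, by omega⟩)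
      have hlt : ∑ j ∈ range r, v j < ∑ _j ∈ range r, (1 : ℤ) := Finset.sum_lt_sum
        (fun j _ => by rcases hb j with e | e <;> omega) (by
        rcases hb 1 with e | e
        · exact ⟨1, mem_range.2 hr.one_lt, by omega⟩
        · exact ⟨0, mem_range.2 hr.pos, by rcases hb 0 with e' | e' <;> omega⟩)
      simp only [sum_const, card_range, nsmul_eq_mul, mul_one] at hlt
      intro hd
      have := Int.le_of_dvd hpos hd
      omega
    have htk : (t : ZMod r) ^ k ≠ 0 := fun h => by
      have := hout 1 hone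
      rw [h, zero_mul, zero_add] at this
      rw [h, zero_mul, zero_add] at hni
      exact hni this
    have hconst : ∀ x : ZMod n, (∀ y, (r : ZMod n) * y ≠ x) → f.coeff x = f.coeff 1 := fun x hx =>
      bin_eq_of_red (hB x) (hB 1) (mul_left_cancel₀ htk (by linear_combination hout x hx - hout 1 hone))
    rcases hB 1 with h1 | h1
    · obtain ⟨e1, e2⟩ := single_of_cube hr ⟨q, hq⟩ hB hne hper (fun x hx => by
        by_contra hno; push Not at hno; exact hx ((hconst x hno).trans h1)) t γ hc
      exact ⟨e2, Or.inl e1⟩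
    · set g := allOnes - f with hg
      have hgc : ∀ x, g.coeff x = 1 - f.coeff x := fun x => by
        rw [hg, coeff_sub, Finsupp.sub_apply, coeff_allOnes]
      set c' := ∑ x, (g ^ 2 - g * f + f ^ 2).coeff x with hc'
      obtain ⟨e1, e2⟩ := single_of_cube (g := g) hr ⟨q, hq⟩
        (fun x => by rw [hgc]; rcases hB x with e | e <;> simp [e])
        ⟨0, by rw [hgc, h0]; norm_num⟩
        (fun h hh => by obtain ⟨x, hx⟩ := hper h hh; exact ⟨x, by rw [hgc, hgc]; omega⟩)
        (fun x hx => by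
          by_contra hno; push Not at hno; rw [hgc, hconst x hno, h1, sub_self] at hx; exact hx rfl)
        t (c' - γ - t) (by
          have h : g ^ 3 + f ^ 3 = c' • allOnes := by
            rw [hc', ← mul_allOnes, hg]; ring
          rw [eq_sub_of_add_eq h, hc, hg, smul_sub, sub_smul, sub_smul]
          abel)
      refine ⟨e2, Or.inr ?_⟩
      rw [Finset.sum_congr rfl (fun x _ => hgc x), Finset.sum_sub_distrib] at e1
      simp only [sum_const, card_univ, ZMod.card, nsmul_eq_mul, mul_one] at e1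
      rw [ha]; linarith
  · push Not at hodd
    obtain ⟨j, hj⟩ : ∃ j, n = 2 ^ (j + 1) := by
      have e := Nat.eq_prime_pow_of_unique_prime_dvd (NeZero.ne n) (fun {p} hp hpn => hodd p hp hpn)
      obtain ⟨l, hl⟩ : ∃ l, n = 2 ^ l := ⟨_, e⟩
      rcases l with _ | l
      · simp at hl; omega
      · exact ⟨l, hl⟩
    set z : ZMod n := ((2 ^ j : ℕ) : ZMod n) with hz
    have hz0 : z ≠ 0 := by
      rw [hz, Ne, ZMod.natCast_eq_zero_iff, hj]
      intro h
      have := Nat.le_of_dvd (by positivity) h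
      rw [pow_succ] at this
      have : 0 < 2 ^ j := by positivity
      omega
    have hzz : z + z = 0 := by
      rw [hz, ← Nat.cast_add, ← two_mul, ← pow_succ', ← hj, ZMod.natCast_self]
    have hoff : ∀ i, i ≠ 0 → i ≠ z → f.coeff (i + z) = f.coeff i := fun i hi0 hiz => by
      obtain ⟨k, hk⟩ := exists_unit_half hj hi0 hiz
      rw [hz, ← hk, hR k i]
    have hfz : f.coeff z = 1 := by
      refine (hB z).resolve_left fun hz' => ?_
      obtain ⟨i, hi⟩ := hper z hz0
      by_cases h1 : i = 0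
      · subst h1; rw [zero_add, hz', h0] at hi; exact hi rfl
      by_cases h2 : i = z
      · rw [h2, hzz, h0, hz'] at hi; exact hi rfl
      exact hi (hoff i h1 h2)
    set D : Cy ℤ n := 1 - single z 1 with hD
    have hfD : f * D = -D := by
      refine cy_ext fun i => ?_
      simp only [hD, mul_sub, mul_one, coeff_sub, Finsupp.sub_apply, coeff_mul_single', coeff_neg,
        Finsupp.coe_neg, Pi.neg_apply, coeff_one', coeff_single, Finsupp.single_apply]
      have hsub : i - z = i + z := by rw [sub_eq_add_neg, neg_eq_of_add_eq_zero_right hzz]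
      rw [hsub]
      by_cases h1 : i = 0
      · subst h1; rw [zero_add, hfz, h0, if_pos rfl, if_neg hz0]; norm_num
      by_cases h2 : i = z
      · subst h2; rw [hzz, h0, hfz, if_neg h1, if_pos rfl]; norm_num
      rw [hoff i h1 h2, if_neg h1, if_neg (Ne.symm h2)]; ring
    have ht : t = 1 := by
      have h3 : f ^ 3 * D = -D := by
        rw [pow_succ, pow_succ, pow_one, mul_assoc, hfD, mul_neg, mul_assoc, hfD, mul_neg, neg_neg, hfD]
      rw [hc, add_mul, smul_mul_assoc, smul_mul_assoc, hfD, hD, allOnes_shift, smul_zero, add_zero] at h3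
      have := congrArg (fun w : Cy ℤ n => w.coeff 0) h3
      simp only [coeff_smul_apply, coeff_neg, Finsupp.neg_apply, coeff_sub, Finsupp.sub_apply,
        coeff_one', coeff_single, Finsupp.single_apply, if_true, if_neg hz0, smul_eq_mul, sub_zero,
        mul_neg, mul_one, neg_inj] at this
      exact this
    refine ⟨ht, ?_⟩
    set g := f * f with hg
    have hgR : Rat g := rat_mul hR hR
    have hneg : ∀ (w : Cy ℤ n), Rat w → ∀ i, w.coeff (-i) = w.coeff i := fun w hw i => by
      have := hw (-1) i; simpa using this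
    have hg00 : g.coeff 0 = a := by
      rw [hg, coeff_mul', ha]
      refine Finset.sum_congr rfl fun i _ => ?_
      rw [zero_sub, hneg f hR]; rcases hB i with e | e <;> simp [e]
    have hev : ∀ w : Cy ℤ n, ev (1 : ℤ) (one_pow n) w = ∑ i, w.coeff i := fun w => by rw [ev_eq]; simp
    have hsg : ∑ i, g.coeff i = a ^ 2 := by rw [← hev, hg, map_mul, hev, ← ha, sq]
    have hN1 : ev (1 : ℤ) (one_pow n) (allOnes : Cy ℤ n) = (n : ℤ) := by rw [hev]; simp [coeff_allOnes]
    have hcube : a ^ 3 = a + γ * n := by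
      have := congrArg (ev (1 : ℤ) (one_pow n)) hc
      rw [map_pow, map_add, map_zsmul, map_zsmul, hev, hN1, ← ha, ht] at this
      simpa using this
    have hsq : ∑ i, g.coeff i * g.coeff i = a + γ * a := by
      have h4 : g * g = g + (γ * a) • allOnes := by
        rw [hg, show f * f * (f * f) = f * f ^ 3 by ring, hc, ht, one_smul, mul_add, mul_smul_comm,
          mul_allOnes, ← ha, smul_smul]
      have := congrArg (fun w : Cy ℤ n => w.coeff 0) h4
      simp only [coeff_add', coeff_smul_apply, coeff_allOnes, smul_eq_mul, mul_one, hg00] at this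
      rw [coeff_mul'] at this
      rw [← this]
      exact Finset.sum_congr rfl fun i _ => by rw [zero_sub, hneg g hgR]
    have hcs := sq_sum_le_card_mul_sum_sq (s := (univ : Finset (ZMod n)).erase 0) (f := fun i => g.coeff i)
    rw [Finset.sum_erase_eq_sub (mem_univ _), Finset.sum_erase_eq_sub (mem_univ _), hsg, hg00,
      Finset.card_erase_of_mem (mem_univ _), Finset.card_univ, ZMod.card] at hcs
    simp only [sq] at hcs
    rw [hsq] at hcs
    push_cast [Nat.cast_sub (show 1 ≤ n by omega)] at hcs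
    have hapos : 1 ≤ a := by
      obtain ⟨i, hi⟩ := hne
      calc (1 : ℤ) = f.coeff i := ((hB i).resolve_left hi).symm
        _ ≤ a := Finset.single_le_sum (fun i _ => by rcases hB i with e | e <;> omega) (mem_univ i)
    have hale : a ≤ (n : ℤ) - 1 := by
      have : a ≤ ∑ i : ZMod n, (if i = 0 then (0 : ℤ) else 1) := Finset.sum_le_sum fun i _ => by
        by_cases h : i = 0
        · rw [if_pos h, h, h0]
        · rw [if_neg h]; rcases hB i with e | e <;> omega
      rw [Finset.sum_ite, Finset.sum_const_zero, zero_add, Finset.sum_const, Finset.filter_ne',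
        Finset.card_erase_of_mem (mem_univ _), Finset.card_univ, ZMod.card, nsmul_eq_mul, mul_one,
        Nat.cast_sub (show 1 ≤ n by omega), Nat.cast_one] at this
      exact this
    by_contra hcon
    push Not at hcon
    have ha2 : 2 ≤ a := by omega
    have hb2 : 2 ≤ (n : ℤ) - a := by omega
    have key : (n : ℤ) * ((a * a - a) * (a * a - a)) ≤ ((n : ℤ) - 1) * (a * n + (a ^ 3 - a) * a - a * a * n) := by
      have h5 := mul_le_mul_of_nonneg_left hcs (show (0 : ℤ) ≤ (n : ℤ) by positivity)
      have h6 : a ^ 3 - a = γ * n := by linarith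
      rw [h6]
      linarith
    have hpos : 0 < a * (a - 1) * (((n : ℤ) - a) * ((n : ℤ) - a - 1)) := by
      have h1 : 0 < a - 1 := by omega
      have h2 : 0 < (n : ℤ) - a - 1 := by omega
      positivity
    nlinarith

end CfsgLib.DihedralSR
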