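import Cfsg.Agent.Lib.Perm.Dihedral.Rational
import Cfsg.Agent.Lib.Perm.Dihedral.Spectrum

/-!
# There are no nontrivial rational binary elements
-/

set_option autoImplicit false

namespace CfsgLib.DihedralSR

open AddMonoidAlgebra Finset

/-- No subset of the cyclic group of order eight has this difference pattern. -/
theorem no_eight : ∀ b0 b1 b2 b3 b4 b5 b6 b7 : Bool,
    let B : Bool → ℕ := fun b => if b then 1 else 0
    B b0 + B b1 + B b2 + B b3 + B b4 + B b5 + B b6 + B b7 = 4 →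
    B b0 * B b4 + B b1 * B b5 + B b2 * B b6 + B b3 * B b7 + B b4 * B b0 + B b5 * B b1 + B b6 * B b2 +
      B b7 * B b3 = 0 →
    B b0 * B b7 + B b1 * B b0 + B b2 * B b1 + B b3 * B b2 + B b4 * B b3 + B b5 * B b4 + B b6 * B b5 +
      B b7 * B b6 = 2 → False := by
  decide

theorem coeff_castMap {m n : ℕ} [NeZero m] [NeZero n] (h : n ∣ m) (x : Cy ℤ m) (j : ZMod n) :
    (mapDomainRingHom ℤ (ZMod.castHom h (ZMod n)).toAddMonoidHom x).coeff j =
      ∑ i : ZMod m, if ZMod.castHom h (ZMod n) i = j then x.coeff i else 0 := by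
  classical
  conv_lhs => rw [eq_ofFn x]
  rw [ofFn, map_sum, coeff_sum']
  refine Finset.sum_congr rfl fun i _ => ?_
  simp [Finsupp.single_apply]
  by_cases h : (i.cast : ZMod n) = j <;> simp [h]

theorem castMap_periodic {m n k : ℕ} [NeZero m] [NeZero n] (hm : m = k * n) (x : Cy ℤ m) (g : Cy ℤ n)
    (hg : ∀ i, x.coeff i = g.coeff (ZMod.castHom (Dvd.intro_left k hm.symm) (ZMod n) i)) :
    mapDomainRingHom ℤ (ZMod.castHom (Dvd.intro_left k hm.symm) (ZMod n)).toAddMonoidHom x = (k : ℤ) • g := by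
  classical
  refine cy_ext fun j => ?_
  rw [coeff_castMap, sum_periodic _ hm (fun i => by
    rw [map_add, map_natCast, ZMod.natCast_self, add_zero, hg (i + n), hg i, map_add, map_natCast,
      ZMod.natCast_self, add_zero]), coeff_smul_apply]
  simp only [map_natCast, hg]
  rw [← sum_zmod (fun v : ZMod n => if v = j then g.coeff v else 0)]
  simp

namespace SR

variable {m : ℕ} [NeZero m] (S : SR m)

theorem no_cand (hm2 : 2 ≤ m) (X₀ : Pr m) : ¬ Cand S X₀ := by
  classical
  intro hX₀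
  obtain ⟨X₁, hX₁, p, q, hp, hm, hper₁⟩ := exists_periodic_of_cand hm2 hX₀
  haveI := Fact.mk hp
  -- normalise the value at the identity
  obtain ⟨T, hT, hT0, hperq⟩ : ∃ T, Cand S T ∧ T.a.coeff 0 = 0 ∧
      ∀ i, T.a.coeff (i + (q : ZMod m)) = T.a.coeff i := by
    rcases hX₁.binA 0 with h | h
    · exact ⟨X₁, hX₁, h, hper₁⟩
    · have hca : ∀ i, (Pr.full - X₁).a.coeff i = 1 - X₁.a.coeff i := fun i => by
        rw [Pr.sub_a, coeff_sub, Finsupp.sub_apply, Pr.full_a, coeff_allOnes]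
      have hcb : ∀ i, (Pr.full - X₁).b.coeff i = 1 - X₁.b.coeff i := fun i => by
        rw [Pr.sub_b, coeff_sub, Finsupp.sub_apply, Pr.full_b, coeff_allOnes]
      refine ⟨Pr.full - X₁, ⟨S.sub' S.full hX₁.inv, fun i => ?_, fun i => ?_, fun k i => ?_, fun hf => ?_⟩, ?_,
        fun i => by rw [hca, hca, hper₁]⟩
      · rw [hca]; rcases hX₁.binA i with e | e <;> rw [e] <;> norm_num
      · rw [hcb]; rcases hX₁.binB i with e | e <;> rw [e] <;> norm_num
      · rw [hca, hca, hX₁.rat k i]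
      · obtain ⟨c, h1, h2⟩ := hf
        exact hX₁.nflat ⟨1 - c, fun i hi => by have := h1 i hi; rw [hca] at this; omega,
          fun j => by have := h2 j; rw [hcb] at this; omega⟩
      · rw [hca, h, sub_self]
  have hsym := S.sym hT.inv
  obtain ⟨i₁, hi₁, hi₁A⟩ := hT.exists_ne hm2
  set A := T.a with hA
  set B := T.b with hB
  set a := ∑ i, A.coeff i with ha
  set b := ∑ i, B.coeff i with hb
  -- the square
  obtain ⟨c, hc1, hc2⟩ := S.flat_of_rat_periodic hm (S.mul hT.inv hT.inv)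
    (by rw [Pr.mul_a]; exact rat_add (rat_mul hT.rat hT.rat) (S.rat_conv hm2 hT.inv hT.binA hT.binB hT.rat))
    (fun j => by
      rw [Pr.mul_b, hsym, mul_comm T.b, ← two_mul, two_mul, coeff_add', coeff_add', coeff_mul', coeff_mul']
      congr 1 <;> exact (Fintype.sum_equiv (Equiv.addRight (q : ZMod m)) _ _ fun i => by
        simp only [Equiv.coe_addRight, show ∀ i, T.a.coeff (i + (q : ZMod m)) = T.a.coeff i from hperq,
          add_sub_add_right_eq_sub]).symm)
  rw [Pr.mul_a] at hc1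
  rw [Pr.mul_b, hsym] at hc2
  set E := B * st B with hE
  set e := (A * A + E).coeff 0 - c with he
  have hS : A * A + E = c • allOnes + e • 1 := cy_ext fun i => by
    rw [coeff_add' (c • allOnes), coeff_smul_apply, coeff_smul_apply, coeff_allOnes, coeff_one', smul_eq_mul,
      smul_eq_mul, mul_one]
    split_ifs with h
    · rw [h, he]; ring
    · rw [mul_zero, add_zero]; exact hc1 i h
  have hAB : A * B + B * A = c • allOnes := cy_ext fun i => by
    rw [coeff_smul_apply, coeff_allOnes, smul_eq_mul, mul_one]; exact hc2 i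
  -- evaluation at the trivial character
  have hev : ∀ w : Cy ℤ m, ev (1 : ℤ) (one_pow m) w = ∑ i, w.coeff i := fun w => by rw [ev_eq]; simp
  have hevN : ev (1 : ℤ) (one_pow m) (allOnes : Cy ℤ m) = (m : ℤ) := by rw [hev]; simp [coeff_allOnes]
  have hevst : ev (1 : ℤ) (one_pow m) (st B) = b := by
    rw [hev, hb]; exact Fintype.sum_equiv (Equiv.neg _) _ _ fun i => by rw [coeff_st]; rfl
  have hev1 : a * a + b * b = c * m + e := by
    have := congrArg (ev (1 : ℤ) (one_pow m)) hS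
    rw [hE, map_add, map_mul, map_mul, map_add, map_zsmul, map_zsmul, map_one, hevst, hev A, hev B, hevN] at this
    simpa [← ha, ← hb] using this
  have hev2 : 2 * (a * b) = c * m := by
    have := congrArg (ev (1 : ℤ) (one_pow m)) hAB
    rw [map_add, map_mul, map_mul, map_zsmul, hev A, hev B, hevN, ← ha, ← hb, smul_eq_mul] at this
    linarith
  have hk0 : e + c = a + b := by
    rw [he, sub_add_cancel, hE, coeff_add', coeff_mul', coeff_mul_st]
    congr 1
    · refine Finset.sum_congr rfl fun i _ => ?_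
      have h2 : A.coeff (-i) = A.coeff i := by rw [← coeff_st, hsym]
      rw [zero_sub, h2]; rcases hT.binA i with h | h <;> rw [h] <;> norm_num
    · refine Finset.sum_congr rfl fun i _ => ?_
      rw [sub_zero]; rcases hT.binB i with h | h <;> rw [h] <;> norm_num
  have hab : (a - b) ^ 2 = e := by linear_combination hev1 - hev2
  -- the cube of the rotation part
  set γ₀ := (A ^ 3 - e • A).coeff 0 with hγ₀
  have hcube : A ^ 3 - e • A = γ₀ • allOnes := by
    have h2 : (2 : ℤ) • (A ^ 3 - e • A) = (2 * (c * a) - c * b) • allOnes := by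
      have h1 : A ^ 3 + A * E = (c * a) • allOnes + e • A := by
        calc A ^ 3 + A * E = A * (A * A + E) := by ring
          _ = _ := by rw [hS, mul_add, mul_smul_comm, mul_smul_comm, mul_one, mul_allOnes, smul_smul, ← ha]
      have h3 : (2 : ℤ) • (A * E) = (c * b) • allOnes := by
        calc (2 : ℤ) • (A * E) = (A * B + B * A) * st B := by rw [hE, two_zsmul]; ring
          _ = _ := by
            rw [hAB, smul_mul_assoc, mul_comm allOnes, mul_allOnes, smul_smul]
            congr 2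
            rw [← hev, hevst]
      have h4 : A ^ 3 - e • A = (c * a) • allOnes - A * E := by rw [eq_sub_of_add_eq h1]; abel
      rw [h4, smul_sub, h3, smul_smul, sub_smul]
    refine cy_ext fun i => ?_
    have h5 := congrArg (fun w : Cy ℤ m => w.coeff i) h2
    have h6 := congrArg (fun w : Cy ℤ m => w.coeff 0) h2
    simp only [coeff_smul_apply, coeff_allOnes, smul_eq_mul, mul_one] at h5 h6 ⊢
    rw [hγ₀]; linarith
  -- the least period
  have hex : ∃ l : ℕ, 0 < l ∧ ∀ i, A.coeff (i + (l : ZMod m)) = A.coeff i :=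
    ⟨q, Nat.pos_of_ne_zero (fun h => natCast_ne_zero_of hm hp (by rw [h, Nat.cast_zero])), hperq⟩
  set n := Nat.find hex with hn
  obtain ⟨hnpos, hpern⟩ := Nat.find_spec hex
  rw [← hn] at hnpos hpern
  haveI : NeZero n := ⟨hnpos.ne'⟩
  have hmul : ∀ (l : ℕ) (i : ZMod m), A.coeff (i + ((n * l : ℕ) : ZMod m)) = A.coeff i := by
    intro l
    induction l with
    | zero => simp
    | succ l ih => intro i; rw [Nat.mul_succ, Nat.cast_add, ← add_assoc, hpern, ih]
  have hdvd : n ∣ m := by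
    refine Nat.dvd_of_mod_eq_zero ?_
    by_contra h0
    refine Nat.find_min hex (Nat.mod_lt m hnpos) ⟨Nat.pos_of_ne_zero h0, fun i => ?_⟩
    rw [← hmul (m / n) (i + _), add_assoc, ← Nat.cast_add]
    change A.coeff (i + ((m % n + n * (m / n) : ℕ) : ZMod m)) = _
    rw [Nat.mod_add_div, ZMod.natCast_self, add_zero]
  obtain ⟨k, hmk'⟩ := hdvd
  have hmk : m = k * n := hmk'.trans (mul_comm n k)
  let cst := ZMod.castHom (Dvd.intro_left k hmk.symm : n ∣ m) (ZMod n)
  set f : Cy ℤ n := ofFn fun j => A.coeff ((j.val : ℕ) : ZMod m) with hf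
  have hfA : ∀ i, A.coeff i = f.coeff (cst i) := fun i => by
    rw [hf, coeff_ofFn, show cst i = ((i.val : ℕ) : ZMod n) by rw [← ZMod.natCast_zmod_val i, map_natCast,
      ZMod.natCast_zmod_val], ZMod.val_natCast]
    conv_lhs => rw [← ZMod.natCast_zmod_val i, ← Nat.mod_add_div i.val n, Nat.cast_add, hmul]
  have hcst : ∀ j : ZMod n, cst ((j.val : ℕ) : ZMod m) = j := fun j => by rw [map_natCast, ZMod.natCast_zmod_val]
  have hn2 : 2 ≤ n := by
    by_contra h
    have h1 : n = 1 := by omega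
    refine hi₁A ?_
    rw [← hT0, ← ZMod.natCast_zmod_val i₁, ← hmul i₁.val 0, zero_add, h1, one_mul]
  have hk2 : 2 ≤ k := by
    have hnq : n ≤ q := Nat.find_min' hex
      ⟨Nat.pos_of_ne_zero (fun h => natCast_ne_zero_of hm hp (by rw [h, Nat.cast_zero])), hperq⟩
    have := hp.two_le
    by_contra h
    have : k ≤ 1 := by omega
    have h1 : k * n ≤ n := by simpa using Nat.mul_le_mul_right n this
    nlinarith
  have hfB : Bin f := fun j => by rw [hf, coeff_ofFn]; exact hT.binA _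
  have hf0 : f.coeff 0 = 0 := by rw [← map_zero cst, ← hfA]; exact hT0
  have hfne : ∃ j, f.coeff j ≠ 0 := ⟨cst i₁, by rw [← hfA]; exact hi₁A⟩
  have hfR : Rat f := fun u j => by
    obtain ⟨w, rfl⟩ := ZMod.unitsMap_surjective (Dvd.intro_left k hmk.symm : n ∣ m) u
    rw [← hcst j]
    change f.coeff (cst (w : ZMod m) * cst _) = _
    rw [← map_mul, ← hfA, ← hfA, hT.rat w]
  have hfper : ∀ h : ZMod n, h ≠ 0 → ∃ j, f.coeff (j + h) ≠ f.coeff j := fun h hh => by
    by_contra hno
    push Not at hno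
    refine Nat.find_min hex (ZMod.val_lt h) ⟨Nat.pos_of_ne_zero fun h0 => hh ((ZMod.val_eq_zero h).1 h0),
      fun i => ?_⟩
    rw [hfA, hfA, map_add, hcst, hno]
  have hfc : ((k : ℤ) ^ 2) • f ^ 3 - e • f = γ₀ • allOnes := by
    have h1 := congrArg (mapDomainRingHom ℤ cst.toAddMonoidHom) hcube
    have hπA := castMap_periodic hmk A f hfA
    have hπN := castMap_periodic hmk (allOnes : Cy ℤ m) (allOnes : Cy ℤ n) fun i => by
      rw [coeff_allOnes, coeff_allOnes]
    rw [map_sub, map_pow, map_zsmul, map_zsmul] at h1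
    change mapDomainRingHom ℤ cst.toAddMonoidHom A = _ at hπA
    change mapDomainRingHom ℤ cst.toAddMonoidHom _ = _ at hπN
    rw [hπA, hπN, smul_pow] at h1
    refine cy_ext fun j => ?_
    have h2 := congrArg (fun w : Cy ℤ n => w.coeff j) h1
    simp only [coeff_sub, Finsupp.sub_apply, coeff_smul_apply, coeff_allOnes, smul_eq_mul, mul_one] at h2 ⊢
    have hk : (k : ℤ) ≠ 0 := by exact_mod_cast (show k ≠ 0 by omega)
    exact mul_left_cancel₀ hk (by linear_combination h2)
  obtain ⟨j₁, hj₁⟩ := hfne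
  have hj₁' : f.coeff j₁ = 1 := (hfB j₁).resolve_left hj₁
  set t := (f ^ 3).coeff j₁ - (f ^ 3).coeff 0 with ht
  have hcoef : ∀ j, (k : ℤ) ^ 2 * (f ^ 3).coeff j - e * f.coeff j = γ₀ := fun j => by
    have := congrArg (fun w : Cy ℤ n => w.coeff j) hfc
    simpa only [coeff_sub, Finsupp.sub_apply, coeff_smul_apply, coeff_allOnes, smul_eq_mul, mul_one] using this
  have het : e = (k : ℤ) ^ 2 * t := by
    have h1 := hcoef j₁
    have h2 := hcoef 0
    rw [hj₁'] at h1; rw [hf0] at h2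
    rw [ht]; linarith
  have hspec : f ^ 3 = t • f + ((f ^ 3).coeff 0) • allOnes := cy_ext fun j => by
    rw [coeff_add', coeff_smul_apply, coeff_smul_apply, coeff_allOnes, smul_eq_mul, smul_eq_mul, mul_one]
    have h1 := hcoef j
    have h2 := hcoef 0
    rw [hf0] at h2; rw [het] at h1 h2
    exact mul_left_cancel₀ (pow_ne_zero 2 (show (k : ℤ) ≠ 0 by exact_mod_cast (show k ≠ 0 by omega)))
      (by linear_combination h1 - h2)
  obtain ⟨ht1, hσ⟩ := spectrum hn2 hfB hf0 ⟨j₁, hj₁⟩ hfR hfper t _ hspec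
  rw [ht1, mul_one] at het
  set σ := ∑ j, f.coeff j with hσdef
  have haσ : a = k * σ := by
    rw [ha, sum_periodic _ hmk hpern, hσdef, sum_zmod (fun j => f.coeff j), nsmul_eq_mul]
    congr 1
    exact Finset.sum_congr rfl fun v _ => by rw [hfA, map_natCast]
  have hbne : b ≠ 0 := fun h0 => by
    refine hi₁A (S.only_one hT.inv (cy_ext fun j => ?_) hi₁)
    rw [coeff_zero, Finsupp.coe_zero, Pi.zero_apply]
    exact (Finset.sum_eq_zero_iff_of_nonneg fun j _ => by rcases hT.binB j with h | h <;> rw [h] <;> norm_num).1 h0 j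
      (mem_univ j)
  have hbm : b ≠ m := fun hbm => by
    have hall : ∀ j, B.coeff j = 1 := by
      intro j
      refine ((Finset.sum_eq_sum_iff_of_le (f := fun j => B.coeff j) (g := fun _ => (1 : ℤ)) fun j _ => ?_).1 ?_) j
        (mem_univ j)
      · rcases hT.binB j with h | h <;> rw [h] <;> norm_num
      · rw [← hb, hbm]; simp
    refine hT.nflat (S.flat_of_periodic hT.inv (h := (n : ZMod m)) (fun h => ?_) hpern fun j => by rw [hall, hall])
    rw [ZMod.natCast_eq_zero_iff] at h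
    have := Nat.le_of_dvd hnpos h
    nlinarith
  have hmZ : (m : ℤ) = k * n := by exact_mod_cast hmk
  have hkey : (k : ℤ) * ((m : ℤ) * (3 - k) - 4 * k) = 0 := by
    have hsq : (a - b) ^ 2 = (k : ℤ) ^ 2 := hab.trans het
    rcases sq_eq_sq_iff_eq_or_eq_neg.1 hsq with h | h <;> rcases hσ with hσ | hσ <;> rw [haσ, hσ] at h
    · exact absurd (by linarith) hbne
    · have hb' : b = m - 2 * k := by rw [hmZ]; linarith
      have hc' : c = a + b - e := by linarith
      rw [hc', het, haσ, hσ, hb'] at hev2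
      rw [hmZ] at hev2 ⊢
      linear_combination -hev2
    · have hb' : b = 2 * k := by linarith
      have hc' : c = a + b - e := by linarith
      rw [hc', het, haσ, hσ, hb'] at hev2
      linear_combination -hev2
    · exact absurd (by rw [hmZ]; linarith) hbm
  have hk' : (m : ℤ) * (3 - k) = 4 * k := by
    have := (mul_eq_zero.1 hkey).resolve_left (by exact_mod_cast (show k ≠ 0 by omega))
    linarith
  obtain rfl : k = 2 := by
    by_contra hne
    have h3 : (3 : ℤ) - k ≤ 0 := by omega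
    have : (m : ℤ) * (3 - k) ≤ 0 := mul_nonpos_of_nonneg_of_nonpos (by positivity) h3
    omega
  obtain rfl : m = 8 := by push_cast at hk'; omega
  have hn4 : n = 4 := by omega
  clear_value n
  subst hn4
  -- the explicit small case
  have hneg : f.coeff 3 = f.coeff 1 := by
    have := hfR (-1) 1
    rwa [Units.val_neg, Units.val_one, mul_one, show (-1 : ZMod 4) = 3 by decide] at this
  have hσ4 : σ = f.coeff 0 + f.coeff 1 + f.coeff 2 + f.coeff 3 := Fin.sum_univ_four (fun j : ZMod 4 => f.coeff j)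
  have ecast : ∀ i : ZMod 8, cst i = ((i.val : ℕ) : ZMod 4) := fun i => by
    rw [← ZMod.natCast_zmod_val i, map_natCast, ZMod.natCast_zmod_val]
  have hAA : ∀ i : ZMod 8, (A * A).coeff i = ∑ j : ZMod 8, f.coeff (j.val : ZMod 4) * f.coeff ((i - j).val : ZMod 4) :=
    fun i => by rw [coeff_mul']; exact Finset.sum_congr rfl fun j _ => by rw [hfA, hfA, ecast, ecast]
  have hf' : (σ = 1 ∧ f.coeff 1 = 0 ∧ f.coeff 2 = 1) ∨ (σ = 3 ∧ f.coeff 1 = 1 ∧ f.coeff 2 = 1) := by
    rcases hfB 1 with h1 | h1 <;> rcases hfB 2 with h2 | h2 <;> rw [hf0, hneg, h1, h2] at hσ4 <;>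
      rcases hσ with h | h <;> omega
  obtain ⟨hE1, hE4, hb4⟩ : E.coeff 1 = 2 ∧ E.coeff 4 = 0 ∧ b = 4 := by
    have e1 := hc1 1 (by decide)
    have e4 := hc1 4 (by decide)
    rw [coeff_add', hAA] at e1 e4
    have u1 : (∑ j : ZMod 8, f.coeff (j.val : ZMod 4) * f.coeff (((1 : ZMod 8) - j).val : ZMod 4)) =
        f.coeff 0 * f.coeff 1 + f.coeff 1 * f.coeff 0 + f.coeff 2 * f.coeff 3 + f.coeff 3 * f.coeff 2 +
        f.coeff 0 * f.coeff 1 + f.coeff 1 * f.coeff 0 + f.coeff 2 * f.coeff 3 + f.coeff 3 * f.coeff 2 :=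
      Fin.sum_univ_eight (fun j : ZMod 8 => f.coeff (j.val : ZMod 4) * f.coeff (((1 : ZMod 8) - j).val : ZMod 4))
    have u4 : (∑ j : ZMod 8, f.coeff (j.val : ZMod 4) * f.coeff (((4 : ZMod 8) - j).val : ZMod 4)) =
        f.coeff 0 * f.coeff 0 + f.coeff 1 * f.coeff 3 + f.coeff 2 * f.coeff 2 + f.coeff 3 * f.coeff 1 +
        f.coeff 0 * f.coeff 0 + f.coeff 1 * f.coeff 3 + f.coeff 2 * f.coeff 2 + f.coeff 3 * f.coeff 1 :=
      Fin.sum_univ_eight (fun j : ZMod 8 => f.coeff (j.val : ZMod 4) * f.coeff (((4 : ZMod 8) - j).val : ZMod 4))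
    rw [u1] at e1; rw [u4] at e4
    rcases hf' with ⟨hs, h1, h2⟩ | ⟨hs, h1, h2⟩ <;> rw [hf0, hneg, h1, h2] at e1 e4 <;>
      rw [haσ, hs] at hev2 hk0 <;> push_cast at hev2 hk0 het <;> omega
  have hBd : ∀ d : ZMod 8, E.coeff d = ∑ j : ZMod 8, B.coeff j * B.coeff (j - d) := fun d => coeff_mul_st B d
  rw [hBd, show (∑ j : ZMod 8, B.coeff j * B.coeff (j - 1)) = _ from
    Fin.sum_univ_eight (fun j : ZMod 8 => B.coeff j * B.coeff (j - 1))] at hE1
  rw [hBd, show (∑ j : ZMod 8, B.coeff j * B.coeff (j - 4)) = _ from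
    Fin.sum_univ_eight (fun j : ZMod 8 => B.coeff j * B.coeff (j - 4))] at hE4
  rw [hb, show (∑ j : ZMod 8, B.coeff j) = _ from Fin.sum_univ_eight (fun j : ZMod 8 => B.coeff j)] at hb4
  have hv : ∀ j, ∃ β : Bool, B.coeff j = (((if β then 1 else 0) : ℕ) : ℤ) := fun j => by
    rcases hT.binB j with h | h
    · exact ⟨false, by simpa using h⟩
    · exact ⟨true, by simpa using h⟩
  choose β hβ using hv
  change B.coeff (0 : ZMod 8) + B.coeff 1 + B.coeff 2 + B.coeff 3 + B.coeff 4 + B.coeff 5 + B.coeff 6 +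
    B.coeff 7 = 4 at hb4
  change B.coeff (0 : ZMod 8) * B.coeff 7 + B.coeff 1 * B.coeff 0 + B.coeff 2 * B.coeff 1 + B.coeff 3 * B.coeff 2 +
    B.coeff 4 * B.coeff 3 + B.coeff 5 * B.coeff 4 + B.coeff 6 * B.coeff 5 + B.coeff 7 * B.coeff 6 = 2 at hE1
  change B.coeff (0 : ZMod 8) * B.coeff 4 + B.coeff 1 * B.coeff 5 + B.coeff 2 * B.coeff 6 + B.coeff 3 * B.coeff 7 +
    B.coeff 4 * B.coeff 0 + B.coeff 5 * B.coeff 1 + B.coeff 6 * B.coeff 2 + B.coeff 7 * B.coeff 3 = 0 at hE4
  simp only [hβ] at hE1 hE4 hb4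
  norm_cast at hE1 hE4 hb4
  exact no_eight (β 0) (β 1) (β 2) (β 3) (β 4) (β 5) (β 6) (β 7) hb4 hE4 hE1

end SR

end CfsgLib.DihedralSR
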