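import Cfsg.Agent.Lib.Perm.Dihedral.Powers

/-!
# Rational elements with periodic reflection part
-/

set_option autoImplicit false

namespace CfsgLib.DihedralSR

open AddMonoidAlgebra Finset DihedralGroup

variable {m : ℕ} [NeZero m]

theorem rat_scal (c : ℤ) : Rat (Pr.scal c : Pr m).a := fun k i => by
  rw [Pr.scal_a, Pr.scal_a]
  exact if_congr (Units.mul_right_eq_zero k) rfl rfl

theorem rat_add {A B : Cy ℤ m} (hA : Rat A) (hB : Rat B) : Rat (A + B) := fun k i => by
  rw [coeff_add', coeff_add', hA k i, hB k i]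

theorem natCast_ne_zero_of {p q : ℕ} (hm : m = p * q) (hp : p.Prime) : (q : ZMod m) ≠ 0 := by
  intro h
  rw [ZMod.natCast_eq_zero_iff] at h
  have hq : 0 < q := Nat.pos_of_ne_zero (by rintro rfl; exact NeZero.ne m (by simp [hm]))
  have := Nat.le_of_dvd hq h
  have h2 := hp.two_le
  rw [hm] at this
  nlinarith

/-- Changing the value at the identity. -/
noncomputable def setOne (X : Pr m) (v : ℤ) : Pr m := X + Pr.scal (v - X.a.coeff 0)

theorem setOne_a (X : Pr m) (v : ℤ) (i : ZMod m) :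
    (setOne X v).a.coeff i = if i = 0 then v else X.a.coeff i := by
  rw [setOne, Pr.add_a, coeff_add', Pr.scal_a]
  split_ifs with h
  · rw [h]; ring
  · rw [add_zero]

theorem setOne_b (X : Pr m) (v : ℤ) : (setOne X v).b = X.b := by
  rw [setOne, Pr.add_b, Pr.scal_b, add_zero]

theorem setOne_rat {X : Pr m} (h : Rat X.a) (v : ℤ) : Rat (setOne X v).a := rat_add h (rat_scal _)

theorem Flat.setOne_iff {X : Pr m} (v : ℤ) : Flat (setOne X v) ↔ Flat X := by
  constructor <;> rintro ⟨c, h1, h2⟩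
  · exact ⟨c, fun i hi => by simpa [setOne_a, hi] using h1 i hi, fun j => by simpa [setOne_b] using h2 j⟩
  · exact ⟨c, fun i hi => by simpa [setOne_a, hi] using h1 i hi, fun j => by simpa [setOne_b] using h2 j⟩

namespace SR

variable (S : SR m)

theorem setOne {X : Pr m} (hX : S.Inv X) (v : ℤ) : S.Inv (setOne X v) := S.add hX (S.scal _)

theorem flat_of_periodic {X : Pr m} (hX : S.Inv X) {h : ZMod m} (hh : h ≠ 0)
    (ha : ∀ i, X.a.coeff (i + h) = X.a.coeff i) (hb : ∀ j, X.b.coeff (j + h) = X.b.coeff j) : Flat X :=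
  ⟨X.a.coeff 0, fun i _ => (S.radical_rot hX hh ha hb i).1, fun j => (S.radical_rot hX hh ha hb j).2⟩

theorem flat_of_rat_periodic_bin {p q : ℕ} [Fact p.Prime] (hm : m = p * q) {X : Pr m} (hX : S.Inv X)
    (hA : Bin X.a) (hR : Rat X.a) (hb : ∀ j, X.b.coeff (j + (q : ZMod m)) = X.b.coeff j) : Flat X := by
  have hp : p.Prime := Fact.out
  haveI := charP_cy (m := m) p
  have hE : red p (X.b * st X.b) = 0 := cy_ext fun i => by
    rw [coeff_red, coeff_mul_st, sum_periodic (fun j => X.b.coeff j * X.b.coeff (j - i)) hm (fun j => by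
      simp only [hb j, add_sub_right_comm, hb (j - i)]), coeff_zero, Finsupp.coe_zero, Pi.zero_apply,
      nsmul_eq_mul, Int.cast_mul, Int.cast_natCast, ZMod.natCast_self, zero_mul]
  obtain ⟨ha, hbz⟩ := S.red_pow hX p p
  rw [(PQ_charP p _ _).2.2 hE] at ha hbz
  simp only at ha hbz
  rw [zero_mul] at hbz
  have hY : S.Inv ((X ^ p).map fun v => if (v : ZMod p) = 0 then 0 else 1) := S.comp _ (S.pow hX p)
  have hfib : ∀ n : ZMod m, n ≠ 0 → ((red p X.a) ^ p).coeff n = 0 := by
    intro n hn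
    have h0 := S.only_one hY (cy_ext fun j => by
      have := congrArg (fun z => z.coeff j) hbz
      simp only [coeff_red, coeff_zero, Finsupp.coe_zero, Pi.zero_apply] at this
      rw [Pr.map_b, if_pos this, coeff_zero, Finsupp.coe_zero, Pi.zero_apply]) hn
    rw [Pr.map_a] at h0
    split_ifs at h0 with h
    · rw [← ha, coeff_red]; exact h
    · exact absurd h0 one_ne_zero
  rw [← Flat.setOne_iff (X.a.coeff q)]
  exact S.flat_of_periodic (S.setOne hX _) (natCast_ne_zero_of hm hp)
    (fun i => by rw [setOne_a, setOne_a]; exact periodic_of_fibre hm hR hA hfib i)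
    (fun j => by rw [setOne_b]; exact hb j)

/-- A rational element with periodic reflection part is constant off the identity. -/
theorem flat_of_rat_periodic {p q : ℕ} [Fact p.Prime] (hm : m = p * q) {X : Pr m} (hX : S.Inv X)
    (hR : Rat X.a) (hb : ∀ j, X.b.coeff (j + (q : ZMod m)) = X.b.coeff j) : Flat X := by
  set c := X.a.coeff (q : ZMod m) with hc
  obtain ⟨d, h1, h2⟩ := S.flat_of_rat_periodic_bin hm
    (X := X.map fun v => if v = c then 1 else 0) (S.comp _ hX)
    (fun i => by rw [Pr.map_a]; split_ifs <;> simp) (rat_ofFn_comp hR fun v => if v = c then 1 else 0)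
    (fun j => by rw [Pr.map_b, Pr.map_b, hb j])
  have hd := h1 q (natCast_ne_zero_of hm Fact.out)
  rw [Pr.map_a, if_pos hc.symm] at hd
  refine ⟨c, fun i hi => ?_, fun j => ?_⟩
  · have := h1 i hi
    rw [Pr.map_a, ← hd] at this
    by_contra hne; rw [if_neg hne] at this; exact zero_ne_one this
  · have := h2 j
    rw [Pr.map_b, ← hd] at this
    by_contra hne; rw [if_neg hne] at this; exact zero_ne_one this

end SR

/-- The binary nontrivial elements with rational rotation part. -/
structure Cand (S : SR m) (X : Pr m) : Prop where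
  inv : S.Inv X
  binA : Bin X.a
  binB : Bin X.b
  rat : Rat X.a
  nflat : ¬ Flat X

theorem Cand.setOne {S : SR m} {X : Pr m} (h : Cand S X) {v : ℤ} (hv : v = 0 ∨ v = 1) : Cand S (setOne X v) where
  inv := S.setOne h.inv v
  binA i := by
    rw [setOne_a]
    split_ifs
    · exact hv
    · exact h.binA i
  binB i := by rw [setOne_b]; exact h.binB i
  rat := setOne_rat h.rat v
  nflat := fun hf => h.nflat ((Flat.setOne_iff v).1 hf)

theorem Cand.exists_ne {S : SR m} {X : Pr m} (hm : 2 ≤ m) (h : Cand S X) : ∃ i, i ≠ 0 ∧ X.a.coeff i ≠ 0 := by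
  by_contra hne
  push Not at hne
  refine h.nflat ((Flat.setOne_iff 0).1 ?_)
  have hz : (DihedralSR.setOne X 0).a = 0 := cy_ext fun i => by
    rw [setOne_a, coeff_zero, Finsupp.coe_zero, Pi.zero_apply]
    split_ifs with hi
    · rfl
    · exact hne i hi
  have hb := S.det hm (S.setOne h.inv 0) hz
  exact ⟨0, fun i _ => by rw [hz]; simp, fun j => by rw [hb]; simp⟩

theorem exists_periodic_of_cand {S : SR m} (hm2 : 2 ≤ m) {X₀ : Pr m} (hX₀ : Cand S X₀) :
    ∃ X : Pr m, Cand S X ∧ ∃ p q : ℕ, p.Prime ∧ m = p * q ∧ ∀ i, X.a.coeff (i + (q : ZMod m)) = X.a.coeff i := by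
  classical
  let good : ℕ → Prop := fun d => d ∣ m ∧
    ∃ X, Cand S X ∧ X.a.coeff 0 = 0 ∧ ∀ i, X.a.coeff i ≠ 0 → ∃ x, i = (d : ZMod m) * x
  have h1 : good 1 := ⟨one_dvd m, _, hX₀.setOne (Or.inl rfl), by rw [setOne_a, if_pos rfl],
    fun i _ => ⟨i, by simp⟩⟩
  set d := Nat.findGreatest good m with hd
  have hgd : good d := Nat.findGreatest_spec (NeZero.pos m) h1
  obtain ⟨⟨H, hH⟩, X, hX, hX0, hsupp⟩ := hgd
  have hd0 : 0 < d := Nat.pos_of_ne_zero fun h => NeZero.ne m (by rw [hH, h, zero_mul])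
  obtain ⟨i₁, hi₁, hi₁'⟩ := hX.exists_ne hm2
  have hH1 : H ≠ 1 := fun h => by
    obtain ⟨x, hx⟩ := hsupp i₁ hi₁'
    exact hi₁ (by rw [hx, show d = m by rw [hH, h, mul_one], ZMod.natCast_self, zero_mul])
  by_cases hodd : ∃ p, p.Prime ∧ p ∣ H ∧ p ≠ 2
  · obtain ⟨p, hp, ⟨H', hH'⟩, hp2⟩ := hodd
    haveI := Fact.mk hp
    haveI := charP_cy (m := m) p
    obtain ⟨k, hk⟩ := hp.odd_of_ne_two hp2
    obtain ⟨ha, -⟩ := S.red_pow hX.inv p p
    rw [((PQ_charP p _ _).1 k hk)] at ha
    simp only at ha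
    let φ : ℤ → ℤ := fun v => if (v : ZMod p) = 0 then 0 else 1
    set W := setOne ((X ^ p).map φ) 0 with hW
    have hWa : ∀ i, i ≠ 0 → W.a.coeff i = if ((red p X.a) ^ p).coeff i = 0 then 0 else 1 := fun i hi => by
      rw [hW, setOne_a, if_neg hi, Pr.map_a, ← ha, coeff_red]
    have hWi : S.Inv W := S.setOne (S.comp _ (S.pow hX.inv p)) 0
    have hm' : m = p * (d * H') := by rw [hH, hH']; ring
    have hpd : p * d ∣ m := ⟨H', by rw [hm']; ring⟩
    have hWs : ∀ i, W.a.coeff i ≠ 0 → ∃ x, i = ((p * d : ℕ) : ZMod m) * x := by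
      intro i hi
      have hi0 : i ≠ 0 := fun h => hi (by rw [hW, setOne_a, if_pos h])
      rw [hWa i hi0] at hi
      have hne : ((red p X.a) ^ p).coeff i ≠ 0 := fun h => hi (if_pos h)
      rw [coeff_pow_prime', Int.cast_sum] at hne
      obtain ⟨j, hj, hj'⟩ := Finset.exists_ne_zero_of_sum_ne_zero hne
      obtain ⟨x, hx⟩ := hsupp j fun h => hj' (by rw [h, Int.cast_zero])
      exact ⟨x, by rw [Nat.cast_mul, mul_assoc, ← hx, (mem_filter.1 hj).2]⟩
    have hflat : Flat W := by
      by_contra hnf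
      have hcand : Cand S W := by
        refine ⟨hWi, fun i => ?_, fun i => ?_, ?_, hnf⟩
        · rw [hW, setOne_a, Pr.map_a]; simp only [φ]; split_ifs <;> simp
        · rw [hW, setOne_b, Pr.map_b]; simp only [φ]; split_ifs <;> simp
        · intro k i
          by_cases hi : i = 0
          · rw [hi, mul_zero]
          · rw [hWa i hi, hWa _ (fun h => hi ((Units.mul_right_eq_zero k).1 h)),
              rat_pow (rat_red p hX.rat) p k i]
      have hle : p * d ≤ m := Nat.le_of_dvd (NeZero.pos m) hpd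
      have := Nat.le_findGreatest (P := good) hle ⟨hpd, W, hcand, by rw [hW, setOne_a, if_pos rfl], hWs⟩
      rw [← hd] at this
      have := hp.two_le
      nlinarith
    obtain ⟨c, hc, -⟩ := hflat
    have hdne : (d : ZMod m) ≠ 0 := fun h => by
      rw [ZMod.natCast_eq_zero_iff] at h
      have := Nat.le_of_dvd hd0 h
      rw [hH] at this
      have : H ≤ 1 := Nat.le_of_mul_le_mul_left (by simpa using this) hd0
      rcases Nat.le_one_iff_eq_zero_or_eq_one.1 this with h0 | h0
      · exact NeZero.ne m (by rw [hH, h0, mul_zero])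
      · exact hH1 h0
    have hc0 : c = 0 := by
      rw [← hc _ hdne]
      by_contra hne
      obtain ⟨x, hx⟩ := hWs _ hne
      have := congrArg (ZMod.castHom hpd (ZMod (p * d))) hx
      rw [map_mul, map_natCast, map_natCast, ZMod.natCast_self, zero_mul, ZMod.natCast_eq_zero_iff] at this
      have := Nat.le_of_dvd hd0 this
      have := hp.two_le
      nlinarith
    have hfib : ∀ n : ZMod m, n ≠ 0 → ((red p X.a) ^ p).coeff n = 0 := fun n hn => by
      have := hc n hn
      rw [hWa n hn, hc0] at this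
      by_contra hne
      rw [if_neg hne] at this
      exact one_ne_zero this
    refine ⟨_, hX.setOne (hX.binA ((d * H' : ℕ) : ZMod m)), p, d * H', hp, hm', fun i => ?_⟩
    rw [setOne_a, setOne_a]
    exact periodic_of_fibre hm' hX.rat hX.binA hfib i
  · push Not at hodd
    obtain ⟨j, hj⟩ : ∃ j, H = 2 ^ j :=
      ⟨_, Nat.eq_prime_pow_of_unique_prime_dvd (fun h => NeZero.ne m (by rw [hH, h, mul_zero]))
        (fun {p} hp hpH => hodd p hp hpH)⟩
    obtain ⟨j', rfl⟩ : ∃ j', j = j' + 1 :=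
      ⟨j - 1, (Nat.succ_pred_eq_of_ne_zero fun h => hH1 (by rw [hj, h, pow_zero])).symm⟩
    have hm' : m = 2 * (d * 2 ^ j') := by rw [hH, hj]; ring
    set q := d * 2 ^ j' with hq
    have hq2 : (q : ZMod m) + q = 0 := by
      rw [← Nat.cast_add, ← two_mul, ← hm', ZMod.natCast_self]
    refine ⟨_, hX.setOne (hX.binA (q : ZMod m)), 2, q, Nat.prime_two, hm', fun i => ?_⟩
    rw [setOne_a, setOne_a]
    by_cases hi : ∃ x, i = (d : ZMod m) * x
    · obtain ⟨x, hx⟩ := hi
      by_cases hi0 : i = 0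
      · subst hi0; rw [zero_add, if_pos rfl]; split_ifs <;> rfl
      by_cases hiq : i + q = 0
      · have : i = q := by
          rw [eq_neg_of_add_eq_zero_left hiq]; exact (eq_neg_of_add_eq_zero_left hq2).symm
        rw [if_pos hiq, if_neg hi0, this]
      rw [if_neg hiq, if_neg hi0]
      -- a unit moves `i` to `i + q`
      have hv : i = ((d * x.val : ℕ) : ZMod m) := by rw [Nat.cast_mul, ZMod.natCast_zmod_val]; exact hx
      obtain ⟨s, u, hu, hxv⟩ := Nat.exists_eq_pow_mul_and_not_dvd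
        (n := x.val) (fun h => hi0 (by rw [hv, h, mul_zero, Nat.cast_zero])) 2 (by norm_num)
      have hs : s < j' := by
        by_contra hle
        push Not at hle
        obtain ⟨t, rfl⟩ := Nat.exists_eq_add_of_le hle
        have hiv : i = ((2 ^ t * u : ℕ) : ZMod m) * q := by
          rw [hv, hxv, ← Nat.cast_mul, hq]; congr 1; ring
        rcases Nat.even_or_odd (2 ^ t * u) with ⟨w, hw⟩ | ⟨w, hw⟩
        · refine hi0 ?_
          rw [hiv, hw, Nat.cast_add, add_mul, ← mul_add, hq2, mul_zero]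
        · refine hiq ?_
          rw [hiv, hw, Nat.cast_add, Nat.cast_mul, Nat.cast_one, add_mul, one_mul, add_assoc, hq2, add_zero,
            Nat.cast_two, two_mul, add_mul, ← mul_add, hq2, mul_zero]
      obtain ⟨t, ht⟩ := Nat.exists_eq_add_of_lt hs
      let k₀ : ℕ := 1 + 2 ^ (t + 1)
      have hk₀ : Nat.Coprime k₀ (2 ^ (j' + 1)) := Nat.Coprime.pow_right _
        (Nat.coprime_two_right.2 (by simp [k₀, Nat.odd_add, parity_simps]))
      obtain ⟨k, hk⟩ := ZMod.unitsMap_surjective (n := 2 ^ (j' + 1)) (m := m)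
        ⟨d, by rw [hm', hq]; ring⟩ (ZMod.unitOfCoprime k₀ hk₀)
      have hk' : ((k : ZMod m).val : ZMod (2 ^ (j' + 1))) = (k₀ : ZMod (2 ^ (j' + 1))) := by
        have := congrArg Units.val hk
        rw [ZMod.unitsMap_val, ZMod.coe_unitOfCoprime] at this
        rw [← this, ← ZMod.cast_eq_val]
      rw [ZMod.natCast_eq_natCast_iff] at hk'
      have hmod := Nat.ModEq.mul_left' d (hk'.mul_right x.val)
      rw [show d * 2 ^ (j' + 1) = m by rw [hm', hq]; ring, ← ZMod.natCast_eq_natCast_iff, Nat.cast_mul,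
        Nat.cast_mul ((k : ZMod m).val), ZMod.natCast_zmod_val, ZMod.natCast_zmod_val] at hmod
      rw [← hX.rat k i]
      congr 1
      rw [hx, mul_left_comm, hmod, ← hx]
      obtain ⟨w, hw⟩ : Odd u := Nat.not_even_iff_odd.1 fun h => hu (even_iff_two_dvd.1 h)
      have e : d * (k₀ * x.val) = d * x.val + (w * (2 * q) + q) := by
        simp only [k₀, hxv, hw, hq, ht]
        ring
      rw [e, ← hm', Nat.cast_add, ← hv, Nat.cast_add, Nat.cast_mul w, ZMod.natCast_self, mul_zero, zero_add]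
    · have hi0 : i ≠ 0 := fun h => hi ⟨0, by rw [h, mul_zero]⟩
      have hiq : ¬ ∃ x, i + q = (d : ZMod m) * x := fun ⟨x, hx⟩ => hi ⟨x - (2 ^ j' : ℕ), by
        rw [mul_sub, ← Nat.cast_mul, ← hq, ← hx, add_sub_cancel_right]⟩
      rw [if_neg fun h => hiq ⟨0, by rw [h, mul_zero]⟩, if_neg hi0]
      rw [by_contra fun h => hi (hsupp i h), by_contra fun h => hiq (hsupp _ h)]

end CfsgLib.DihedralSR
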