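import Cfsg.Agent.Lib.Perm.Dihedral.Cyclic

/-!
# Schur rings over dihedral groups

A function on the dihedral group is a pair of elements of the cyclic group algebra: its values on
the rotations and its values on the reflections.
-/

set_option autoImplicit false

namespace CfsgLib.DihedralSR

open AddMonoidAlgebra Finset DihedralGroup

variable {m : ℕ}

/-- A function on the dihedral group of order `2 m`. -/
@[ext] structure Pr (m : ℕ) where
  /-- values on rotations -/
  a : Cy ℤ m
  /-- values on reflections -/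
  b : Cy ℤ m

namespace Pr

noncomputable instance : One (Pr m) := ⟨⟨1, 0⟩⟩
noncomputable instance : Zero (Pr m) := ⟨⟨0, 0⟩⟩
noncomputable instance : Add (Pr m) := ⟨fun X Y => ⟨X.a + Y.a, X.b + Y.b⟩⟩
noncomputable instance : Mul (Pr m) := ⟨fun X Y => ⟨X.a * Y.a + X.b * st Y.b, X.a * Y.b + X.b * st Y.a⟩⟩

theorem one_a : (1 : Pr m).a = 1 := rfl
theorem one_b : (1 : Pr m).b = 0 := rfl
theorem add_a (X Y : Pr m) : (X + Y).a = X.a + Y.a := rfl
theorem add_b (X Y : Pr m) : (X + Y).b = X.b + Y.b := rfl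
theorem mul_a (X Y : Pr m) : (X * Y).a = X.a * Y.a + X.b * st Y.b := rfl
theorem mul_b (X Y : Pr m) : (X * Y).b = X.a * Y.b + X.b * st Y.a := rfl

variable [NeZero m]

noncomputable instance : Monoid (Pr m) where
  mul_assoc X Y Z := by
    ext1
    · simp only [mul_a, mul_b, map_add, map_mul, st_st]; ring
    · simp only [mul_a, mul_b, map_add, map_mul, st_st]; ring
  one_mul X := by ext1 <;> simp [mul_a, mul_b, one_a, one_b]
  mul_one X := by ext1 <;> simp [mul_a, mul_b, one_a, one_b]

theorem sr_ne_one (i : ZMod m) : (sr i : DihedralGroup m) ≠ 1 := fun h => by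
  have h' : (sr i : DihedralGroup m) = r 0 := h
  cases h'

/-- The value at a group element. -/
def fn (X : Pr m) : DihedralGroup m → ℤ
  | r i => X.a.coeff i
  | sr i => X.b.coeff (-i)

/-- Composition of the values with a map. -/
noncomputable def map (X : Pr m) (φ : ℤ → ℤ) : Pr m :=
  ⟨ofFn fun i => φ (X.a.coeff i), ofFn fun i => φ (X.b.coeff i)⟩

/-- Inversion. -/
noncomputable def star (X : Pr m) : Pr m := ⟨st X.a, X.b⟩

theorem fn_ext {X Y : Pr m} (h : ∀ d, X.fn d = Y.fn d) : X = Y := by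
  ext1
  · exact cy_ext fun i => h (r i)
  · exact cy_ext fun i => by simpa [fn] using h (sr (-i))

theorem fn_map (X : Pr m) (φ : ℤ → ℤ) (d : DihedralGroup m) : (X.map φ).fn d = φ (X.fn d) := by
  cases d <;> simp [fn, map, coeff_ofFn]

theorem fn_add (X Y : Pr m) (d : DihedralGroup m) : (X + Y).fn d = X.fn d + Y.fn d := by
  cases d <;> simp [fn, add_a, add_b, coeff_add']

theorem fn_one (d : DihedralGroup m) : (1 : Pr m).fn d = if d = 1 then 1 else 0 := by
  cases d with
  | r i =>
    show (1 : Pr m).a.coeff i = _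
    rw [one_a, coeff_one']
    exact if_congr ⟨fun h => by rw [h]; rfl, fun h => DihedralGroup.r.inj h⟩ rfl rfl
  | sr i =>
    rw [if_neg (fun h => sr_ne_one i h)]
    simp [fn, one_b]

theorem fn_star (X : Pr m) (d : DihedralGroup m) : X.star.fn d = X.fn d⁻¹ := by
  cases d with
  | r i => simp [fn, star, coeff_st, DihedralGroup.inv_r]
  | sr i => simp [fn, star, DihedralGroup.inv_sr]

theorem sum_dihedral {A : Type*} [AddCommMonoid A] (f : DihedralGroup m → A) :
    ∑ d, f d = (∑ i, f (r i)) + ∑ i, f (sr i) := by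
  rw [← Fintype.sum_equiv
    { toFun := fun x => Sum.elim r sr x
      invFun := fun d => match d with | r i => Sum.inl i | sr i => Sum.inr i
      left_inv := fun x => by cases x <;> rfl
      right_inv := fun d => by cases d <;> rfl } (fun x => f (Sum.elim r sr x)) _ (fun x => rfl),
    Fintype.sum_sum_type]
  rfl

theorem fn_mul (X Y : Pr m) (x : DihedralGroup m) :
    (X * Y).fn x = ∑ d, X.fn d * Y.fn (d⁻¹ * x) := by
  rw [sum_dihedral]
  cases x with
  | r j =>
    show (X * Y).a.coeff j = _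
    rw [mul_a, coeff_add', coeff_mul', coeff_mul']
    congr 1
    · refine Finset.sum_congr rfl fun i _ => ?_
      rw [inv_r, r_mul_r]
      simp [fn, sub_eq_neg_add]
    · refine Fintype.sum_equiv (Equiv.neg (ZMod m)) _ _ fun i => ?_
      rw [inv_sr, sr_mul_r, coeff_st]
      simp [fn, sub_eq_add_neg, add_comm]
  | sr j =>
    show (X * Y).b.coeff (-j) = _
    rw [mul_b, coeff_add', coeff_mul', coeff_mul']
    congr 1
    · refine Finset.sum_congr rfl fun i _ => ?_
      rw [inv_r, r_mul_sr]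
      simp [fn, sub_eq_neg_add, add_comm]
    · refine Fintype.sum_equiv (Equiv.neg (ZMod m)) _ _ fun i => ?_
      rw [inv_sr, sr_mul_sr, coeff_st]
      simp [fn, sub_eq_add_neg, add_comm]

end Pr

/-- A primitive Schur ring over a dihedral group, given by the functions it consists of. -/
structure SR (m : ℕ) [NeZero m] where
  /-- the functions of the ring -/
  Inv : Pr m → Prop
  one : Inv 1
  add : ∀ {X Y}, Inv X → Inv Y → Inv (X + Y)
  mul : ∀ {X Y}, Inv X → Inv Y → Inv (X * Y)
  star : ∀ {X}, Inv X → Inv X.star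
  comp : ∀ {X} (φ : ℤ → ℤ), Inv X → Inv (X.map φ)
  prim : ∀ {X}, Inv X → ∀ H : Subgroup (DihedralGroup m), (∀ d, X.fn d ≠ 0 ↔ d ∈ H) → H = ⊥ ∨ H = ⊤

namespace SR

variable [NeZero m] (S : SR m)

theorem pow {X : Pr m} (h : S.Inv X) : ∀ n : ℕ, S.Inv (X ^ n)
  | 0 => by rw [pow_zero]; exact S.one
  | n + 1 => by rw [pow_succ]; exact S.mul (pow h n) h

theorem gen {X : Pr m} (hX : S.Inv X) :
    Subgroup.closure {d | X.fn d ≠ 0} = ⊥ ∨ Subgroup.closure {d | X.fn d ≠ 0} = ⊤ := by
  classical
  set U : Pr m := X.map (fun v => if v = 0 then 0 else 1) + 1 with hU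
  have hUi : S.Inv U := S.add (S.comp _ hX) S.one
  have hUf : ∀ d, U.fn d = (if X.fn d = 0 then 0 else 1) + (if d = 1 then 1 else 0) := fun d => by
    rw [hU, Pr.fn_add, Pr.fn_map, Pr.fn_one]
  have hU0 : ∀ d, 0 ≤ U.fn d := fun d => by rw [hUf]; split_ifs <;> omega
  have hUn : ∀ n d, 0 ≤ (U ^ n).fn d := by
    intro n
    induction n with
    | zero => intro d; rw [pow_zero, Pr.fn_one]; split_ifs <;> omega
    | succ n ih =>
      intro d; rw [pow_succ, Pr.fn_mul]
      exact Finset.sum_nonneg fun e _ => mul_nonneg (ih e) (hU0 _)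
  have hprod : ∀ a b x y, 0 < (U ^ a).fn x → 0 < (U ^ b).fn y → 0 < (U ^ (a + b)).fn (x * y) := by
    intro a b x y hx hy
    rw [pow_add, Pr.fn_mul]
    refine Finset.sum_pos' (fun e _ => mul_nonneg (hUn a e) (hUn b _)) ⟨x, mem_univ x, ?_⟩
    rw [inv_mul_cancel_left]
    exact mul_pos hx hy
  have h1 : ∀ n, 0 < (U ^ n).fn 1 := by
    intro n
    induction n with
    | zero => rw [pow_zero, Pr.fn_one, if_pos rfl]; exact one_pos
    | succ n ih =>
      have := hprod n 1 1 1 ih (by rw [pow_one, hUf, if_pos rfl]; split_ifs <;> omega)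
      rwa [mul_one] at this
  let M : Submonoid (DihedralGroup m) :=
    { carrier := {d | ∃ n, 0 < (U ^ n).fn d}
      one_mem' := ⟨0, h1 0⟩
      mul_mem' := fun ⟨a, ha⟩ ⟨b, hb⟩ => ⟨a + b, hprod a b _ _ ha hb⟩ }
  have hcl : ∀ d ∈ Subgroup.closure {d | X.fn d ≠ 0}, d ∈ M := by
    intro d hd
    induction hd using Subgroup.closure_induction with
    | mem x hx => exact ⟨1, by rw [pow_one, hUf, if_neg (show ¬ X.fn x = 0 from hx)]; split_ifs <;> omega⟩
    | one => exact M.one_mem
    | mul x y _ _ hx hy => exact M.mul_mem hx hy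
    | inv x _ hx =>
      have : x⁻¹ = x ^ (orderOf x - 1) :=
        inv_eq_of_mul_eq_one_right (by rw [← pow_succ', Nat.sub_add_cancel (orderOf_pos x), pow_orderOf_eq_one])
      rw [this]; exact M.pow_mem hx _
  have hch : ∀ d, ∃ n, d ∈ Subgroup.closure {d | X.fn d ≠ 0} → 0 < (U ^ n).fn d := fun d => by
    by_cases hd : d ∈ Subgroup.closure {d | X.fn d ≠ 0}
    · obtain ⟨n, hn⟩ := hcl d hd; exact ⟨n, fun _ => hn⟩
    · exact ⟨0, fun h => absurd h hd⟩
  choose nd hnd using hch
  refine S.prim (S.pow hUi (∑ d, nd d)) _ fun d => ⟨?_, fun hd => ?_⟩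
  · generalize (∑ d, nd d) = N
    induction N generalizing d with
    | zero =>
      rw [pow_zero, Pr.fn_one]
      intro h
      by_cases h1 : d = 1
      · rw [h1]; exact one_mem _
      · exact absurd (if_neg h1) h
    | succ N ih =>
      rw [pow_succ, Pr.fn_mul]
      intro h
      obtain ⟨e, -, he⟩ := Finset.exists_ne_zero_of_sum_ne_zero h
      have h2 : e⁻¹ * d ∈ Subgroup.closure {d | X.fn d ≠ 0} := by
        have := right_ne_zero_of_mul he
        rw [hUf] at this
        by_cases hx : X.fn (e⁻¹ * d) = 0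
        · rw [if_pos hx, zero_add] at this
          by_cases h1 : e⁻¹ * d = 1
          · rw [h1]; exact one_mem _
          · exact absurd (if_neg h1) this
        · exact Subgroup.subset_closure hx
      simpa using mul_mem (ih e (left_ne_zero_of_mul he)) h2
  · have hN : nd d ≤ ∑ d, nd d := Finset.single_le_sum (fun _ _ => Nat.zero_le _) (mem_univ d)
    have := hprod (nd d) ((∑ d, nd d) - nd d) d 1 (hnd d hd) (h1 _)
    rw [mul_one, Nat.add_sub_cancel' hN] at this
    exact this.ne'

/-- The rotations. -/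
def rot (m : ℕ) : Subgroup (DihedralGroup m) where
  carrier := {d | ∃ i, d = r i}
  one_mem' := ⟨0, rfl⟩
  mul_mem' := by rintro _ _ ⟨i, rfl⟩ ⟨j, rfl⟩; exact ⟨i + j, r_mul_r i j⟩
  inv_mem' := by rintro _ ⟨i, rfl⟩; exact ⟨-i, inv_r i⟩

theorem only_one {X : Pr m} (hX : S.Inv X) (hb : X.b = 0) {i : ZMod m} (hi : i ≠ 0) : X.a.coeff i = 0 := by
  have hle : Subgroup.closure {d | X.fn d ≠ 0} ≤ rot m := by
    rw [Subgroup.closure_le]
    intro d hd
    cases d with
    | r j => exact ⟨j, rfl⟩
    | sr j => exact absurd (show X.fn (sr j) = 0 by simp [Pr.fn, hb]) hd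
  rcases S.gen hX with h | h
  · by_contra hne
    have : r i ∈ Subgroup.closure {d | X.fn d ≠ 0} := Subgroup.subset_closure hne
    rw [h, Subgroup.mem_bot, DihedralGroup.one_def] at this
    exact hi (DihedralGroup.r.inj this)
  · have : sr (0 : ZMod m) ∈ rot m := hle (h ▸ Subgroup.mem_top _)
    obtain ⟨j, hj⟩ := this
    exact absurd hj (by simp)

theorem sub {X Y : Pr m} (hX : S.Inv X) (hY : S.Inv Y) : S.Inv (X + Y.map (fun v => -v)) :=
  S.add hX (S.comp _ hY)

theorem sym {X : Pr m} (hX : S.Inv X) : st X.a = X.a := by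
  have h := S.sub (S.star hX) hX
  refine cy_ext fun i => ?_
  by_cases hi : i = 0
  · rw [coeff_st, hi, neg_zero]
  · have := S.only_one h (cy_ext fun j => by simp [Pr.add_b, Pr.map, Pr.star, coeff_add', coeff_ofFn]) hi
    simp only [Pr.add_a, Pr.map, Pr.star, coeff_add', coeff_ofFn] at this
    linarith

theorem cross {X Y : Pr m} (hX : S.Inv X) (hY : S.Inv Y) : st X.b * Y.b = X.b * st Y.b := by
  have h := S.sym (S.mul hX hY)
  rw [Pr.mul_a, map_add, map_mul, map_mul, S.sym hX, S.sym hY, st_st] at h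
  exact add_left_cancel h

theorem coeff_mul_st (B : Cy ℤ m) (i : ZMod m) : (B * st B).coeff i = ∑ j, B.coeff j * B.coeff (j - i) := by
  rw [coeff_mul']
  exact Finset.sum_congr rfl fun j _ => by rw [coeff_st, neg_sub]

theorem det (hm : 2 ≤ m) {X : Pr m} (hX : S.Inv X) (ha : X.a = 0) : X.b = 0 := by
  classical
  refine cy_ext fun j => ?_
  by_contra hj
  change X.b.coeff j ≠ 0 at hj
  set U := X.map (fun v => if v = 0 then 0 else 1) with hU
  have hUa : U.a = 0 := cy_ext fun i => by simp [hU, Pr.map, coeff_ofFn, ha]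
  have hUb : ∀ i, U.b.coeff i = if X.b.coeff i = 0 then 0 else 1 := fun i => by simp [hU, Pr.map, coeff_ofFn]
  have hUi : S.Inv U := S.comp _ hX
  have hsq := S.mul hUi hUi
  have huniq : ∀ i, X.b.coeff i ≠ 0 → i = j := by
    intro i hi
    by_contra hne
    have h0 := S.only_one hsq (by rw [Pr.mul_b, hUa, map_zero, mul_zero, zero_mul, add_zero])
      (i := i - j) (sub_ne_zero.2 hne)
    rw [Pr.mul_a, hUa, zero_mul, zero_add, coeff_mul_st] at h0
    have := (Finset.sum_eq_zero_iff_of_nonneg (fun k _ => mul_nonneg (by rw [hUb]; split_ifs <;> omega)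
      (by rw [hUb]; split_ifs <;> omega))).1 h0 i (mem_univ i)
    rw [sub_sub_cancel, hUb, hUb, if_neg hi, if_neg hj, mul_one] at this
    exact one_ne_zero this
  have hle : Subgroup.closure {d | X.fn d ≠ 0} ≤ Subgroup.zpowers (sr (-j) : DihedralGroup m) := by
    rw [Subgroup.closure_le]
    intro d hd
    cases d with
    | r i => exact absurd (show X.fn (r i) = 0 by simp [Pr.fn, ha]) hd
    | sr i =>
      rw [← huniq (-i) hd, neg_neg]
      exact Subgroup.mem_zpowers _
  rcases S.gen hX with h | h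
  · have : sr (-j) ∈ Subgroup.closure {d | X.fn d ≠ 0} :=
      Subgroup.subset_closure (show X.fn (sr (-j)) ≠ 0 by simpa [Pr.fn] using hj)
    rw [h, Subgroup.mem_bot] at this
    exact Pr.sr_ne_one _ this
  · rw [h, top_le_iff] at hle
    have hc : Nat.card (Subgroup.zpowers (sr (-j) : DihedralGroup m)) = 2 := by
      rw [Nat.card_zpowers, DihedralGroup.orderOf_sr]
    rw [hle, Subgroup.card_top, DihedralGroup.nat_card] at hc
    omega

/-- No nonconstant function of the ring is invariant under a nontrivial right translation. -/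
theorem radical {X : Pr m} (hX : S.Inv X) {x : DihedralGroup m} (hx : x ≠ 1)
    (h : ∀ d, X.fn (d * x) = X.fn d) (d : DihedralGroup m) : X.fn d = X.fn 1 := by
  classical
  let H : Subgroup (DihedralGroup m) :=
    { carrier := {y | ∀ d, X.fn (d * y) = X.fn d}
      one_mem' := fun d => by rw [mul_one]
      mul_mem' := fun {y z} hy hz d => by rw [← mul_assoc, hz, hy]
      inv_mem' := fun {y} hy d => by rw [← hy (d * y⁻¹), inv_mul_cancel_right] }
  have hf : ∀ y, (X.star * X).fn y = ∑ e, X.fn e * X.fn (e * y) := fun y => by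
    rw [Pr.fn_mul]
    refine Fintype.sum_equiv (Equiv.inv _) _ _ fun e => ?_
    rw [Pr.fn_star]
    rfl
  have hY := S.comp (fun v => if v = ∑ e, X.fn e * X.fn e then 1 else 0) (S.mul (S.star hX) hX)
  rcases S.prim hY H (fun y => by
    rw [Pr.fn_map, hf]
    constructor
    · intro hy
      have hy' : ∑ e, X.fn e * X.fn (e * y) = ∑ e, X.fn e * X.fn e := by
        by_contra hne; exact hy (if_neg hne)
      have hperm : ∑ e, X.fn (e * y) * X.fn (e * y) = ∑ e, X.fn e * X.fn e :=
        Fintype.sum_equiv (Equiv.mulRight y) _ _ fun e => rfl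
      have h0 : ∑ e, (X.fn (e * y) - X.fn e) ^ 2 = 0 := by
        have : ∀ e, (X.fn (e * y) - X.fn e) ^ 2 =
            X.fn (e * y) * X.fn (e * y) + X.fn e * X.fn e - 2 * (X.fn e * X.fn (e * y)) := fun e => by ring
        simp only [this, Finset.sum_sub_distrib, Finset.sum_add_distrib, ← Finset.mul_sum, hperm, hy']
        ring
      intro e
      have := (Finset.sum_eq_zero_iff_of_nonneg fun e _ => sq_nonneg (X.fn (e * y) - X.fn e)).1 h0 e (mem_univ e)
      exact sub_eq_zero.1 (pow_eq_zero_iff (two_ne_zero) |>.1 this)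
    · intro hy
      rw [if_pos (Finset.sum_congr rfl fun e _ => by rw [hy e])]
      exact one_ne_zero) with hb | ht
  · exact absurd (Subgroup.mem_bot.1 (hb ▸ (show x ∈ H from h))) hx
  · have : d ∈ H := ht ▸ Subgroup.mem_top d
    simpa using this 1

theorem radical_rot {X : Pr m} (hX : S.Inv X) {h : ZMod m} (hh : h ≠ 0)
    (ha : ∀ i, X.a.coeff (i + h) = X.a.coeff i) (hb : ∀ i, X.b.coeff (i + h) = X.b.coeff i) (i : ZMod m) :
    X.a.coeff i = X.a.coeff 0 ∧ X.b.coeff i = X.a.coeff 0 := by
  have key := S.radical hX (x := r h) (fun e => hh (DihedralGroup.r.inj e)) (fun d => by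
    cases d with
    | r j => rw [r_mul_r]; exact ha j
    | sr j =>
      rw [sr_mul_r]
      show X.b.coeff (-(j + h)) = X.b.coeff (-j)
      rw [← hb (-(j + h))]; congr 1; abel)
  refine ⟨key (r i), ?_⟩
  have := key (sr (-i))
  rw [show (1 : DihedralGroup m) = r 0 from rfl] at this
  simpa [Pr.fn] using this

end SR

end CfsgLib.DihedralSR
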