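import Cfsg.Agent.Lib.Perm.Dihedral.Blocks

/-!
# A primitive Schur ring over a dihedral group is trivial
-/

set_option autoImplicit false

namespace CfsgLib.DihedralSR

open AddMonoidAlgebra Finset DihedralGroup

variable {m : ℕ} [NeZero m]

theorem ev_transfer {ξ ξ' : ℂ} (h : IsPrimitiveRoot ξ m) (h' : IsPrimitiveRoot ξ' m) (w : Cy ℤ m)
    (hw : ev ξ h.pow_eq_one w = 0) : ev ξ' h'.pow_eq_one w = 0 := by
  let P : Polynomial ℚ := ∑ i : ZMod m, Polynomial.monomial i.val (w.coeff i : ℚ)
  have hP : ∀ (z : ℂ) (hz : z ^ m = 1), Polynomial.aeval z P = ev z hz w := fun z hz => by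
    rw [ev_eq, map_sum]
    exact Finset.sum_congr rfl fun i _ => by rw [Polynomial.aeval_monomial]; simp
  have hd : Polynomial.cyclotomic m ℚ ∣ P := by
    rw [Polynomial.cyclotomic_eq_minpoly_rat h (NeZero.pos m)]
    exact minpoly.dvd ℚ ξ ((hP ξ h.pow_eq_one).trans hw)
  obtain ⟨Q, hQ⟩ := hd
  rw [← hP ξ' h'.pow_eq_one, hQ, map_mul, Polynomial.cyclotomic_eq_minpoly_rat h' (NeZero.pos m),
    minpoly.aeval, zero_mul]

namespace Pr

/-- The value at a group element as an additive map. -/
noncomputable def fnHom (d : DihedralGroup m) : Pr m →+ ℤ where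
  toFun X := X.fn d
  map_zero' := fn_zero d
  map_add' X Y := fn_add X Y d

theorem fn_zsmul (c : ℤ) (X : Pr m) (d : DihedralGroup m) : (c • X).fn d = c * X.fn d :=
  (map_zsmul (fnHom d) c X).trans (smul_eq_mul _ _)

/-- The weighted sum of the values. -/
noncomputable def wsum (c : DihedralGroup m → ℤ) : Pr m →+ ℤ := ∑ d, c d • fnHom d

theorem wsum_apply (c : DihedralGroup m → ℤ) (X : Pr m) : wsum c X = ∑ d, c d * X.fn d := by
  simp [wsum, fnHom]

theorem wsum_mul (c : DihedralGroup m → ℤ) (hc : ∀ x y, c (x * y) = c x * c y) (X Y : Pr m) :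
    wsum c (X * Y) = wsum c X * wsum c Y := by
  simp only [wsum_apply, fn_mul]
  rw [Finset.sum_mul_sum]
  simp only [Finset.mul_sum]
  rw [Finset.sum_comm]
  refine Finset.sum_congr rfl fun x _ => ?_
  refine (Fintype.sum_equiv (Equiv.mulLeft x) _ _ fun z => ?_).symm
  rw [Equiv.coe_mulLeft, inv_mul_cancel_left, hc]
  ring

end Pr

/-- The parity character. -/
def parity : DihedralGroup m → ℤ
  | r _ => 1
  | sr _ => -1

theorem parity_mul (x y : DihedralGroup m) : parity (x * y) = parity x * parity y := by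
  cases x <;> cases y <;> simp [parity, r_mul_r, r_mul_sr, sr_mul_r, sr_mul_sr]

namespace SR

variable (S : SR m)

theorem zsmul {X : Pr m} (hX : S.Inv X) (c : ℤ) : S.Inv (c • X) := by
  have : c • X = X.map (fun v => c * v) := Pr.fn_ext fun d => by rw [Pr.fn_zsmul, Pr.fn_map]
  rw [this]; exact S.comp _ hX

/-- A multiplicative linear functional on the ring. -/
structure IsChar (ψ : Pr m →+ ℂ) : Prop where
  map_one : ψ 1 = 1
  map_mul : ∀ {X Y}, S.Inv X → S.Inv Y → ψ (X * Y) = ψ X * ψ Y

theorem exists_chars {ξ : ℂ} (hξ : ξ ^ m = 1) :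
    ∃ P N : Pr m →+ ℂ, S.IsChar P ∧ S.IsChar N ∧ (∀ X, P X + N X = 2 * ev ξ hξ X.a) ∧
      ∀ X, S.Inv X → (P X - ev ξ hξ X.a) ^ 2 = ev ξ hξ (X.b * st X.b) := by
  classical
  set χ := ev ξ hξ with hχ
  obtain ⟨u, hu⟩ : ∃ u : ℂ, ∀ X Y, S.Inv X → S.Inv Y → u * χ X.b * (u * χ Y.b) = χ X.b * χ (st Y.b) := by
    by_cases h0 : ∀ X, S.Inv X → χ X.b = 0
    · exact ⟨0, fun X Y hX _ => by rw [h0 X hX]; ring⟩
    push Not at h0
    obtain ⟨Y₀, hY₀, hb⟩ := h0
    obtain ⟨u, hu⟩ := IsAlgClosed.exists_pow_nat_eq (χ (st Y₀.b) / χ Y₀.b) (n := 2) (by norm_num)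
    refine ⟨u, fun X Y hX hY => ?_⟩
    have hc := congrArg χ (S.cross hY₀ hY)
    rw [map_mul, map_mul] at hc
    have h2 : χ (st Y.b) = χ Y.b * u ^ 2 := by
      rw [hu, ← mul_div_assoc, eq_div_iff hb]
      linear_combination -hc
    rw [h2]; ring
  let av : Pr m →+ ℂ := AddMonoidHom.mk' (fun X => χ X.a) fun X Y => by rw [Pr.add_a, map_add]
  let L : Pr m →+ ℂ := AddMonoidHom.mk' (fun X => u * χ X.b) fun X Y => by rw [Pr.add_b, map_add, mul_add]
  refine ⟨av + L, av - L, ⟨by simp [av, L, Pr.one_a, Pr.one_b], fun {X Y} hX hY => ?_⟩,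
    ⟨by simp [av, L, Pr.one_a, Pr.one_b], fun {X Y} hX hY => ?_⟩, fun X => by simp [av, L]; ring, fun X hX => ?_⟩
  · simp only [AddMonoidHom.add_apply, av, L, AddMonoidHom.mk'_apply, Pr.mul_a, Pr.mul_b, S.sym hY, map_add,
      map_mul]
    linear_combination -(hu X Y hX hY)
  · simp only [AddMonoidHom.sub_apply, av, L, AddMonoidHom.mk'_apply, Pr.mul_a, Pr.mul_b, S.sym hY, map_add,
      map_mul]
    linear_combination -(hu X Y hX hY)
  · simp only [AddMonoidHom.add_apply, av, L, AddMonoidHom.mk'_apply, map_mul]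
    linear_combination hu X X hX hX

theorem one_of_mul_eq_zero (f g : Pr m →+ ℂ) (h : ∀ X, S.Inv X → f X * g X = 0) :
    (∀ X, S.Inv X → f X = 0) ∨ ∀ X, S.Inv X → g X = 0 := by
  by_contra hne
  push Not at hne
  obtain ⟨⟨X, hX, hf⟩, Y, hY, hg⟩ := hne
  have hgX := (mul_eq_zero.1 (h X hX)).resolve_left hf
  have hfY := (mul_eq_zero.1 (h Y hY)).resolve_right hg
  have := h _ (S.add hX hY)
  rw [map_add, map_add, hgX, hfY, add_zero, zero_add] at this
  exact mul_ne_zero hf hg this

theorem no_nt (hm2 : 2 ≤ m) (X₀ : Pr m) : ¬ NT S X₀ := by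
  classical
  intro hX₀
  obtain ⟨p, hp, q, hm⟩ : ∃ p, p.Prime ∧ ∃ q, m = p * q :=
    ⟨m.minFac, Nat.minFac_prime (by omega), Nat.minFac_dvd m⟩
  haveI := Fact.mk hp
  have hp2 : p ≠ 2 := fun h => S.not_nt_of_even hm2 (by rw [← h]; exact hm) X₀ hX₀
  -- the nonidentity classes
  let ι := {s : Finset (DihedralGroup m) // ∃ x, x ≠ 1 ∧ S.cls x = s}
  choose T hTi hTf using fun j : ι => (show ∃ Y, S.Inv Y ∧ ∀ y, Y.fn y = if y ∈ j.1 then 1 else 0 by
    obtain ⟨x, -, hx⟩ := j.2
    rw [← hx]; exact S.exists_indicator x)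
  have hone : ∀ j : ι, (1 : DihedralGroup m) ∉ j.1 := fun j h => by
    obtain ⟨x, hx1, hx⟩ := j.2
    rw [← hx, mem_cls] at h
    have := h 1 S.one
    rw [Pr.fn_one, Pr.fn_one, if_pos rfl, if_neg hx1] at this
    exact one_ne_zero this
  let blk : ∀ y : DihedralGroup m, y ≠ 1 → ι := fun y hy => ⟨S.cls y, y, hy, rfl⟩
  have hmem : ∀ y (hy : y ≠ 1), y ∈ (blk y hy).1 := fun y _ => S.mem_cls.2 fun _ _ => rfl
  have huniq : ∀ (j : ι) y (hy : y ≠ 1), y ∈ j.1 → j = blk y hy := fun j y hy h => by
    obtain ⟨x, -, hx⟩ := j.2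
    refine Subtype.ext ?_
    rw [← hx] at h ⊢
    exact (S.cls_eq_of_mem h).symm
  choose rep hrep using fun j : ι => j.2
  let co : ι → Pr m → ℤ := fun j X => X.fn (rep j)
  have hdec : ∀ X, S.Inv X → X = X.fn 1 • (1 : Pr m) + ∑ j, co j X • T j := fun X hX => Pr.fn_ext fun d => by
    rw [Pr.fn_add, Pr.fn_sum, Pr.fn_zsmul, Pr.fn_one]
    simp only [Pr.fn_zsmul, hTf]
    by_cases hd : d = 1
    · subst hd
      rw [Finset.sum_eq_zero fun j _ => by rw [if_neg (hone j), mul_zero], if_pos rfl]
      ring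
    · rw [if_neg hd, Finset.sum_eq_single (blk d hd) (fun j _ hj => by
        rw [if_neg fun h => hj (huniq j d hd h), mul_zero]) (fun h => absurd (mem_univ _) h), if_pos (hmem d hd)]
      have : d ∈ S.cls (rep (blk d hd)) := by rw [(hrep _).2]; exact hmem d hd
      rw [S.mem_cls.1 this X hX]; simp [co]
  have hexp : ∀ (ψ : Pr m →+ ℂ), S.IsChar ψ → ∀ X, S.Inv X →
      ψ X = (X.fn 1 : ℂ) + ∑ j, (co j X : ℂ) * ψ (T j) := fun ψ hψ X hX => by
    conv_lhs => rw [hdec X hX]
    rw [map_add, map_zsmul, map_sum, hψ.map_one, zsmul_eq_mul, mul_one]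
    congr 1
    exact Finset.sum_congr rfl fun j _ => by rw [map_zsmul, zsmul_eq_mul]
  let π : (Pr m →+ ℂ) → ι → ℂ := fun ψ j => ψ (T j)
  have hagree : ∀ ψ ψ' : Pr m →+ ℂ, S.IsChar ψ → S.IsChar ψ' → π ψ = π ψ' → ∀ X, S.Inv X → ψ X = ψ' X :=
    fun ψ ψ' h h' he X hX => by
      rw [hexp ψ h X hX, hexp ψ' h' X hX]
      simp only [show ∀ j, ψ (T j) = ψ' (T j) from congrFun he]
  -- the number of characters
  have hbound : ∀ F : Finset (ι → ℂ), (∀ v ∈ F, ∃ ψ, S.IsChar ψ ∧ π ψ = v) → F.card ≤ Fintype.card ι + 1 := by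
    intro F hF
    choose ψ hψ hπ using fun v : F => hF v.1 v.2
    let M : Submonoid (Pr m) := { carrier := {X | S.Inv X}, one_mem' := S.one, mul_mem' := S.mul }
    let hom : F → M →* ℂ := fun v =>
      { toFun := fun X => ψ v X.1
        map_one' := (hψ v).map_one
        map_mul' := fun X Y => (hψ v).map_mul X.2 Y.2 }
    have hinj : Function.Injective hom := fun v w h => Subtype.ext (by
      rw [← hπ v, ← hπ w]; funext j; exact DFunLike.congr_fun h ⟨T j, hTi j⟩)
    let Φ : (Option ι → ℂ) →ₗ[ℂ] (M → ℂ) :=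
      { toFun := fun w X => (X.1.fn 1 : ℂ) * w none + ∑ j, (co j X.1 : ℂ) * w (some j)
        map_add' := fun w w' => by funext X; simp [mul_add, Finset.sum_add_distrib]; ring
        map_smul' := fun c w => by funext X; simp [mul_add, Finset.mul_sum, mul_left_comm] }
    have hli := (linearIndependent_monoidHom M ℂ).comp hom hinj
    have heq : ((fun f : M →* ℂ => (f : M → ℂ)) ∘ hom) = Φ ∘ fun v => fun o => o.elim 1 fun j => π (ψ v) j := by
      funext v X
      show ψ v X.1 = _
      rw [hexp _ (hψ v) _ X.2]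
      simp [Φ, π]
    rw [heq] at hli
    have := (LinearIndependent.of_comp Φ hli).fintype_card_le_finrank
    simpa [Fintype.card_option] using this
  -- at least two classes
  have hd2 : 2 ≤ Fintype.card ι := by
    by_contra h
    haveI : Subsingleton ι := Fintype.card_le_one_iff_subsingleton.1 (by omega)
    have hs : ∀ y y' : DihedralGroup m, y ≠ 1 → y' ≠ 1 → X₀.fn y = X₀.fn y' := fun y y' hy hy' => by
      have : y ∈ (blk y' hy').1 := Subsingleton.elim (blk y hy) (blk y' hy') ▸ hmem y hy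
      exact S.mem_cls.1 this X₀ hX₀.inv
    exact hX₀.nflat ⟨X₀.fn (sr 0),
      fun i hi => hs (r i) (sr 0) (fun e => hi (DihedralGroup.r.inj e)) (Pr.sr_ne_one 0), fun j => by
        have := hs (sr (-j)) (sr 0) (Pr.sr_ne_one _) (Pr.sr_ne_one 0)
        simpa [Pr.fn] using this⟩
  have hTa : ∀ j i, (T j).a.coeff i = if r i ∈ j.1 then 1 else 0 := fun j i => hTf j (r i)
  have hTnt : ∀ j, NT S (T j) := fun j => by
    refine ⟨hTi j, fun i => ?_, fun i => ?_, ?_⟩
    · rw [hTa]; split_ifs <;> simp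
    · have := hTf j (sr (-i)); simp only [Pr.fn, neg_neg] at this; rw [this]; split_ifs <;> simp
    · rintro ⟨c, h1, h2⟩
      have hv : ∀ y, y ≠ 1 → (T j).fn y = c := fun y hy => by
        cases y with
        | r i => exact h1 i fun e => hy (by rw [e]; rfl)
        | sr i => exact h2 (-i)
      have hc : c = 1 := by
        rw [← hv _ (hrep j).1, hTf, if_pos]
        have h := hmem (rep j) (hrep j).1
        change rep j ∈ S.cls (rep j) at h
        rwa [(hrep j).2] at h
      have hall : ∀ y (hy : y ≠ 1), blk y hy = j := fun y hy => by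
        refine (huniq j y hy ?_).symm
        by_contra hn
        have := hv y hy
        rw [hTf, if_neg hn, hc] at this
        exact zero_ne_one this
      haveI : Subsingleton ι := ⟨fun a b => by
        rw [huniq a (rep a) (hrep a).1 (by
            have h := hmem (rep a) (hrep a).1; change rep a ∈ S.cls (rep a) at h; rwa [(hrep a).2] at h),
          huniq b (rep b) (hrep b).1 (by
            have h := hmem (rep b) (hrep b).1; change rep b ∈ S.cls (rep b) at h; rwa [(hrep b).2] at h),
          hall _ (hrep a).1, hall _ (hrep b).1]⟩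
      have := Fintype.card_le_one_iff_subsingleton.2 this
      omega
  -- characters of the cyclic group
  obtain ⟨ζ, hζ⟩ : ∃ ζ : ℂ, IsPrimitiveRoot ζ m := ⟨_, Complex.isPrimitiveRoot_exp m (NeZero.ne m)⟩
  have hprim : ∀ k : (ZMod m)ˣ, IsPrimitiveRoot (ζ ^ (k : ZMod m).val) m := fun k =>
    hζ.pow_of_coprime _ (ZMod.val_coe_unit_coprime k)
  let χ : (ZMod m)ˣ → Cy ℤ m →+* ℂ := fun k => ev (ζ ^ (k : ZMod m).val) (hprim k).pow_eq_one
  have htrans : ∀ k k' w, χ k w = 0 → χ k' w = 0 := fun k k' w => ev_transfer (hprim k) (hprim k') w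
  let v : (ZMod m)ˣ → ι → ℂ := fun k j => χ k (T j).a
  -- these vectors span
  have hqpos : 0 < q := Nat.pos_of_ne_zero (by rintro rfl; exact NeZero.ne m (by rw [hm, mul_zero]))
  have hspan : Submodule.span ℂ (Set.range v) = ⊤ := by
    by_contra hne
    obtain ⟨f, hf0, hf⟩ := Submodule.exists_le_ker_of_lt_top _ (lt_top_iff_ne_top.2 hne)
    refine hf0 (LinearMap.pi_ext' fun j => LinearMap.ext_ring ?_)
    simp only [LinearMap.coe_comp, LinearMap.coe_single, Function.comp_apply, LinearMap.zero_apply]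
    set x : ι → ℂ := fun j => f (Pi.single j 1) with hx
    have hfv : ∀ w : ι → ℂ, f w = ∑ j, w j * x j := fun w => by
      conv_lhs => rw [pi_eq_sum_univ' w]
      simp [map_sum, hx]
    let G : ZMod m → ℂ := fun i => ∑ j, x j * ((T j).a.coeff i : ℂ)
    have hG : ∀ k : (ZMod m)ˣ, ∑ i : ZMod m, G i * (ζ ^ (k : ZMod m).val) ^ i.val = 0 := fun k => by
      have : f (v k) = 0 := hf (Submodule.subset_span ⟨k, rfl⟩)
      rw [hfv] at this
      simp only [v, χ, ev_eq, Finset.sum_mul] at this
      rw [Finset.sum_comm] at this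
      rw [← this]
      refine Finset.sum_congr rfl fun i _ => ?_
      simp only [G, Finset.sum_mul]
      exact Finset.sum_congr rfl fun j _ => by ring
    have hR : ∀ k : (ZMod m)ˣ, ∑ l ∈ range p, G ((l * q : ℕ) : ZMod m) * ((ζ ^ q) ^ (k : ZMod m).val) ^ l = 0 := by
      intro k
      set ξ := ζ ^ (k : ZMod m).val with hξ
      have hξm : ξ ^ m = 1 := (hprim k).pow_eq_one
      have hω : ξ ^ q ≠ 1 := fun h => by
        have := Nat.le_of_dvd hqpos ((hprim k).dvd_of_pow_eq_one q h)
        rw [hm] at this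
        have := hp.two_le
        nlinarith
      have hq0 : (p : ZMod m) * (q : ZMod m) = 0 := by rw [← Nat.cast_mul, ← hm, ZMod.natCast_self]
      have hsh : ∀ i : ZMod m, ξ ^ (i + (q : ZMod m)).val = ξ ^ i.val * ξ ^ q := fun i => by
        rw [← pow_add, ZMod.val_add, ZMod.val_natCast, Nat.add_mod_mod, ← pow_eq_pow_mod _ hξm]
      set S1 := ∑ i ∈ univ.filter (fun i : ZMod m => (p : ZMod m) * i ≠ 0), G i * ξ ^ i.val with hS1
      have h1 : S1 = S1 * ξ ^ q := by
        rw [hS1, Finset.sum_mul]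
        refine (Finset.sum_equiv (Equiv.addRight (q : ZMod m)) (fun i => ?_) (fun i hi => ?_)).symm
        · simp [mul_add, hq0]
        · simp only [mem_filter, mem_univ, true_and] at hi
          rw [Equiv.coe_addRight, hsh, ← mul_assoc]
          congr 2
          refine Finset.sum_congr rfl fun j _ => ?_
          rw [S.nt_periodic hm2 hm hp2 (hTnt j) i hi]
      have hS0 : S1 = 0 := by
        have : S1 * (ξ ^ q - 1) = 0 := by rw [mul_sub, mul_one, ← h1, sub_self]
        exact (mul_eq_zero.1 this).resolve_right (sub_ne_zero.2 hω)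
      have htot := hG k
      rw [← hξ, ← Finset.sum_filter_add_sum_filter_not univ (fun i : ZMod m => (p : ZMod m) * i ≠ 0),
        ← hS1, hS0, zero_add] at htot
      simp only [not_not] at htot
      have hfe := fibre_eq hm hp.pos (0 : ZMod m)
      rw [mul_zero] at hfe
      rw [hfe.1, Finset.sum_image hfe.2] at htot
      rw [← htot]
      refine Finset.sum_congr rfl fun l hl => ?_
      rw [zero_add, ZMod.val_cast_of_lt (by rw [hm]; exact Nat.mul_lt_mul_of_pos_right (mem_range.1 hl) hqpos),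
        hξ, ← pow_mul, ← pow_mul, ← pow_mul]
      congr 2
      ring
    have hG0 : G 0 = 0 := Finset.sum_eq_zero fun j _ => by
      rw [hTa, if_neg (by rw [show r (0 : ZMod m) = 1 from rfl]; exact hone j), Int.cast_zero, mul_zero]
    let P : Polynomial ℂ := ∑ l ∈ range p, Polynomial.monomial l (G ((l * q : ℕ) : ZMod m))
    have hω0 : IsPrimitiveRoot (ζ ^ q) p :=
      hζ.pow (NeZero.pos m) (by rw [hm, mul_comm])
    have hP : P = 0 := by
      refine Polynomial.eq_zero_of_natDegree_lt_card_of_eval_eq_zero P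
        (f := fun l : Fin p => if (l : ℕ) = 0 then (0 : ℂ) else (ζ ^ q) ^ (l : ℕ)) (fun a b hab => ?_)
        (fun l => ?_) ?_
      · refine Fin.ext ?_
        by_cases ha : (a : ℕ) = 0 <;> by_cases hb : (b : ℕ) = 0 <;> simp only [ha, hb, if_true, if_false] at hab
        · rw [ha, hb]
        · exact absurd hab.symm (pow_ne_zero _ (hω0.ne_zero hp.ne_zero))
        · exact absurd hab (pow_ne_zero _ (hω0.ne_zero hp.ne_zero))
        · exact hω0.pow_inj a.2 b.2 hab
      · simp only [P, Polynomial.eval_finsetSum, Polynomial.eval_monomial]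
        split_ifs with hl
        · refine Finset.sum_eq_zero fun a _ => ?_
          rcases Nat.eq_zero_or_pos a with rfl | ha
          · simp [hG0]
          · rw [zero_pow ha.ne', mul_zero]
        · have hl' : ¬ p ∣ (l : ℕ) := fun hd => hl (Nat.eq_zero_of_dvd_of_lt hd l.2)
          obtain ⟨k, hk⟩ := ZMod.unitsMap_surjective (n := p) (m := m) ⟨q, hm⟩
            (ZMod.unitOfCoprime l ((hp.coprime_iff_not_dvd.2 hl').symm))
          have hk' : ((k : ZMod m).val : ZMod p) = ((l : ℕ) : ZMod p) := by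
            have := congrArg Units.val hk
            rw [ZMod.unitsMap_val, ZMod.coe_unitOfCoprime] at this
            rw [← this, ← ZMod.cast_eq_val]
          rw [ZMod.natCast_eq_natCast_iff'] at hk'
          have he : (ζ ^ q) ^ (k : ZMod m).val = (ζ ^ q) ^ (l : ℕ) := by
            rw [pow_eq_pow_mod _ hω0.pow_eq_one, hk', ← pow_eq_pow_mod _ hω0.pow_eq_one]
          simpa [he] using hR k
      · refine lt_of_le_of_lt (Polynomial.natDegree_sum_le_of_forall_le _ _ (n := p - 1) fun a ha =>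
          (Polynomial.natDegree_monomial_le _).trans (by have := mem_range.1 ha; omega)) ?_
        rw [Fintype.card_fin]; have := hp.pos; omega
    show x j = 0
    obtain ⟨k, hk⟩ := S.cover hm2 (hTnt j) (natCast_ne_zero_of hm hp)
    have hmemk : r ((k : ZMod m) * (q : ZMod m)) ∈ j.1 := by
      by_contra h
      rw [hTa, if_neg h] at hk
      exact zero_ne_one hk
    have hval : G ((k : ZMod m) * (q : ZMod m)) = x j := by
      rw [show G ((k : ZMod m) * (q : ZMod m)) = ∑ j, x j * ((T j).a.coeff ((k : ZMod m) * (q : ZMod m)) : ℂ)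
        from rfl, Finset.sum_eq_single j (fun j' _ hj' => ?_) (fun h => absurd (mem_univ _) h), hk]
      · simp
      · rw [hTa, if_neg, Int.cast_zero, mul_zero]
        intro h
        have hne : r ((k : ZMod m) * (q : ZMod m)) ≠ 1 := fun e => hone j (by rwa [e] at hmemk)
        exact hj' ((huniq j' _ hne h).trans (huniq j _ hne hmemk).symm)
    obtain ⟨l, hl, hlq⟩ : ∃ l ∈ range p, ((l * q : ℕ) : ZMod m) = (k : ZMod m) * (q : ZMod m) := by
      have hin : (k : ZMod m) * (q : ZMod m) ∈ univ.filter (fun y : ZMod m => (p : ZMod m) * y = (p : ZMod m) * 0) := by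
        simp only [mem_filter, mem_univ, true_and, mul_zero]
        rw [mul_left_comm, ← Nat.cast_mul, ← hm, ZMod.natCast_self, mul_zero]
      rw [(fibre_eq hm hp.pos 0).1] at hin
      simpa using hin
    have := congrArg (fun Q : Polynomial ℂ => Q.coeff l) hP
    simp only [P, Polynomial.finsetSum_coeff, Polynomial.coeff_monomial, Polynomial.coeff_zero] at this
    rw [Finset.sum_ite_eq' (range p) l, if_pos hl, hlq, hval] at this
    exact this
  -- the two integral characters
  have hcast : ∀ c : DihedralGroup m → ℤ, (∀ x y, c (x * y) = c x * c y) → c 1 = 1 →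
      S.IsChar ((Int.castAddHom ℂ).comp (Pr.wsum c)) := fun c hc h1 => ⟨by
    simp [Pr.wsum_apply, Pr.fn_one, h1], fun {X Y} _ _ => by simp [Pr.wsum_mul c hc]⟩
  let e0 := Pr.wsum (fun _ : DihedralGroup m => (1 : ℤ))
  let es := Pr.wsum (parity : DihedralGroup m → ℤ)
  let ε0 : Pr m →+ ℂ := (Int.castAddHom ℂ).comp e0
  let εs : Pr m →+ ℂ := (Int.castAddHom ℂ).comp es
  have hε0 : S.IsChar ε0 := hcast _ (fun _ _ => (one_mul 1).symm) rfl
  have hεs : S.IsChar εs := hcast _ parity_mul rfl
  have hε : π ε0 ≠ π εs := fun h => by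
    have := hagree _ _ hε0 hεs h Pr.full S.full
    have h1 : (∑ d : DihedralGroup m, parity d) = 0 := by rw [Pr.sum_dihedral]; simp [parity]
    simp [ε0, εs, e0, es, Pr.wsum_apply, Pr.fn_full, h1, DihedralGroup.card, NeZero.ne m] at this
  choose P N hP hN hsum hsq using fun k : (ZMod m)ˣ => S.exists_chars (hprim k).pow_eq_one
  have hv : ∀ k, v k = (2⁻¹ : ℂ) • (π (P k) + π (N k)) := fun k => funext fun j => by
    simp only [v, π, Pi.smul_apply, Pi.add_apply, hsum, smul_eq_mul, χ]
    ring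
  have hdim : ∀ F : Finset (ι → ℂ), (∀ k, v k ∈ Submodule.span ℂ (F : Set (ι → ℂ))) → Fintype.card ι ≤ F.card := by
    intro F hF
    have h1 : Submodule.span ℂ (F : Set (ι → ℂ)) = ⊤ := by
      refine top_unique ?_
      rw [← hspan, Submodule.span_le]
      rintro _ ⟨k, rfl⟩
      exact hF k
    have := finrank_span_finset_le_card (R := ℂ) F
    rwa [Set.finrank, h1, finrank_top, Module.finrank_fintype_fun_eq_card] at this
  set Λ := (univ.image fun k => π (P k)) ∪ (univ.image fun k => π (N k)) with hΛ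
  have hΛc : ∀ w ∈ Λ, ∃ ψ, S.IsChar ψ ∧ π ψ = w := by
    intro w hw
    rcases mem_union.1 hw with h | h <;> obtain ⟨k, -, rfl⟩ := mem_image.1 h
    exacts [⟨_, hP k, rfl⟩, ⟨_, hN k, rfl⟩]
  by_cases hin : π ε0 ∈ Λ ∨ π εs ∈ Λ
  · obtain ⟨e, he, hemem⟩ : ∃ e : Pr m →+ ℤ, (e = e0 ∨ e = es) ∧ π ((Int.castAddHom ℂ).comp e) ∈ Λ := by
      rcases hin with h | h
      exacts [⟨e0, Or.inl rfl, h⟩, ⟨es, Or.inr rfl, h⟩]
    set ε : Pr m →+ ℂ := (Int.castAddHom ℂ).comp e with hεdef
    have hεc : S.IsChar ε := by rcases he with rfl | rfl <;> assumption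
    let w : Pr m → Cy ℤ m := fun X => (e X • (1 : Cy ℤ m) - X.a) ^ 2 - X.b * st X.b
    have hprod : ∀ k X, S.Inv X → (ε X - P k X) * (ε X - N k X) = χ k (w X) := fun k X hX => by
      have h2 : χ k (w X) = (ε X - χ k X.a) ^ 2 - χ k (X.b * st X.b) := by
        simp [w, hεdef]
      have h3 : (P k X - χ k X.a) ^ 2 = χ k (X.b * st X.b) := hsq k X hX
      have h4 : N k X = 2 * χ k X.a - P k X := eq_sub_of_add_eq' (hsum k X)
      rw [h2, ← h3, h4]; ring
    obtain ⟨k₀, hk₀⟩ : ∃ k, π ε = π (P k) ∨ π ε = π (N k) := by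
      rcases mem_union.1 hemem with h | h <;> obtain ⟨k, -, hk⟩ := mem_image.1 h
      exacts [⟨k, Or.inl hk.symm⟩, ⟨k, Or.inr hk.symm⟩]
    have hall : ∀ k, π ε = π (P k) ∨ π ε = π (N k) := fun k => by
      have h0 : ∀ X, S.Inv X → χ k₀ (w X) = 0 := fun X hX => by
        rw [← hprod k₀ X hX]
        rcases hk₀ with h | h
        · rw [hagree _ _ hεc (hP k₀) h X hX]; ring
        · rw [hagree _ _ hεc (hN k₀) h X hX]; ring
      rcases S.one_of_mul_eq_zero (ε - P k) (ε - N k) (fun X hX => by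
        rw [AddMonoidHom.sub_apply, AddMonoidHom.sub_apply, hprod k X hX]
        exact htrans k₀ k _ (h0 X hX)) with h | h
      · exact Or.inl (funext fun j => sub_eq_zero.1 (h (T j) (hTi j)))
      · exact Or.inr (funext fun j => sub_eq_zero.1 (h (T j) (hTi j)))
    let o : (ZMod m)ˣ → Pr m →+ ℂ := fun k => if π ε = π (P k) then N k else P k
    have hoc : ∀ k, S.IsChar (o k) := fun k => by
      simp only [o]
      split_ifs
      exacts [hN k, hP k]
    have hvo : ∀ k, v k = (2⁻¹ : ℂ) • (π ε + π (o k)) := fun k => by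
      rw [hv]
      simp only [o]
      split_ifs with h
      · rw [h]
      · rw [(hall k).resolve_left h, add_comm]
    have hnot : ∀ k, π (o k) ≠ π ε0 ∧ π (o k) ≠ π εs := fun k => by
      have aux : ∀ e' : Pr m →+ ℤ, π (o k) ≠ π ((Int.castAddHom ℂ).comp e') := fun e' h => by
        have hc : ∀ k', v k' = v k := fun k' => funext fun j => by
          have h1 : 2 * χ k (T j).a = ((e (T j) + e' (T j) : ℤ) : ℂ) := by
            have := congrFun (hvo k) j
            rw [h] at this
            simp only [v, π, Pi.smul_apply, Pi.add_apply, hεdef, AddMonoidHom.coe_comp, Int.coe_castAddHom,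
              Function.comp_apply, smul_eq_mul] at this
            rw [this, Int.cast_add]; ring
          have hz : χ k ((2 : ℤ) • (T j).a - (e (T j) + e' (T j)) • 1) = 0 := by
            rw [map_sub, map_zsmul, map_zsmul, map_one, zsmul_eq_mul, zsmul_eq_mul, mul_one, Int.cast_ofNat, h1,
              sub_self]
          have hz' := htrans k k' _ hz
          rw [map_sub, map_zsmul, map_zsmul, map_one, zsmul_eq_mul, zsmul_eq_mul, mul_one, Int.cast_ofNat, ← h1,
            ← mul_sub] at hz'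
          exact sub_eq_zero.1 ((mul_eq_zero.1 hz').resolve_left two_ne_zero)
        have := hdim {v k} fun k' => by rw [hc k']; exact Submodule.subset_span (by simp)
        rw [card_singleton] at this
        omega
      exact ⟨aux e0, aux es⟩
    set O := univ.image fun k => π (o k) with hO
    have hcard : (insert (π ε0) (insert (π εs) O)).card = O.card + 2 := by
      rw [card_insert_of_notMem, card_insert_of_notMem]
      · exact fun h => by obtain ⟨k, -, hk⟩ := mem_image.1 h; exact (hnot k).2 hk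
      · intro h
        rcases mem_insert.1 h with h | h
        · exact hε h
        · obtain ⟨k, -, hk⟩ := mem_image.1 h; exact (hnot k).1 hk
    have hle := hbound (insert (π ε0) (insert (π εs) O)) fun w hw => by
      rcases mem_insert.1 hw with rfl | hw
      · exact ⟨_, hε0, rfl⟩
      rcases mem_insert.1 hw with rfl | hw
      · exact ⟨_, hεs, rfl⟩
      obtain ⟨k, -, rfl⟩ := mem_image.1 hw
      exact ⟨_, hoc k, rfl⟩
    have h1 := hdim (O.image fun z => (2⁻¹ : ℂ) • (π ε + z)) fun k => Submodule.subset_span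
      (by rw [hvo k]; exact mem_coe.2 (mem_image_of_mem _ (mem_image_of_mem _ (mem_univ k))))
    have h2 := (O.card_image_le (f := fun z => (2⁻¹ : ℂ) • (π ε + z)))
    omega
  · push Not at hin
    have hcard : (insert (π ε0) (insert (π εs) Λ)).card = Λ.card + 2 := by
      rw [card_insert_of_notMem, card_insert_of_notMem hin.2]
      intro h
      rcases mem_insert.1 h with h | h
      · exact hε h
      · exact hin.1 h
    have hle := hbound (insert (π ε0) (insert (π εs) Λ)) fun w hw => by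
      rcases mem_insert.1 hw with rfl | hw
      · exact ⟨_, hε0, rfl⟩
      rcases mem_insert.1 hw with rfl | hw
      · exact ⟨_, hεs, rfl⟩
      exact hΛc w hw
    have h1 := hdim Λ fun k => by
      rw [hv k]
      exact Submodule.smul_mem _ _ (Submodule.add_mem _
        (Submodule.subset_span (mem_union_left _ (mem_image_of_mem _ (mem_univ k))))
        (Submodule.subset_span (mem_union_right _ (mem_image_of_mem _ (mem_univ k)))))
    omega

/-- A primitive Schur ring over a dihedral group has only the functions constant off the identity. -/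
theorem flat_all (hm2 : 2 ≤ m) {X : Pr m} (hX : S.Inv X) : Flat X := by
  by_contra hnf
  set c := X.b.coeff 0 with hc
  refine S.no_nt hm2 (X.map fun v => if v = c then 1 else 0) ⟨S.comp _ hX, fun i => ?_, fun i => ?_, ?_⟩
  · rw [Pr.map_a]; split_ifs <;> simp
  · rw [Pr.map_b]; split_ifs <;> simp
  · rintro ⟨d, h1, h2⟩
    have hd := h2 0
    rw [Pr.map_b, if_pos rfl] at hd
    refine hnf ⟨c, fun i hi => ?_, fun j => ?_⟩
    · have := h1 i hi
      rw [Pr.map_a, ← hd] at this
      by_contra hne; rw [if_neg hne] at this; exact zero_ne_one this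
    · have := h2 j
      rw [Pr.map_b, ← hd] at this
      by_contra hne; rw [if_neg hne] at this; exact zero_ne_one this

end SR

end CfsgLib.DihedralSR
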